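import Cfsg.Agent.H901.Der.SpEightX

/-!
# Explicit elements of `Sp₈(2)` (S3502)
-/

set_option autoImplicit false
set_option maxRecDepth 100000

namespace Cfsg.Agent.H901.Der

open Cfsg Matrix
open scoped Matrix

theorem pow_step {A : G8} {a b : ℕ} {P Q : M8} (hP : ((A ^ a : G8) : M8) = P) (hQ : ((A ^ b : G8) : M8) = Q) :
    ((A ^ (a + b) : G8) : M8) = P * Q := by
  rw [pow_add, Submonoid.coe_mul, hP, hQ]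

def my1 : M8 := Matrix.fromBlocks !![0, 1, 0, 0; 1, 1, 0, 0; 0, 0, 0, 1; 0, 0, 1, 1] !![1, 1, 0, 0; 0, 0, 0, 0; 0, 0, 1, 1; 0, 0, 0, 0]
  !![0, 1, 0, 0; 0, 0, 0, 0; 0, 0, 0, 1; 0, 0, 0, 0] !![0, 0, 0, 0; 1, 0, 0, 0; 0, 0, 0, 0; 0, 0, 1, 0]

def my2 : M8 := Matrix.fromBlocks !![1, 0, 0, 0; 1, 0, 0, 0; 0, 0, 1, 0; 0, 0, 1, 0] !![1, 0, 0, 0; 1, 1, 0, 0; 0, 0, 1, 0; 0, 0, 1, 1]
  !![1, 1, 0, 0; 0, 1, 0, 0; 0, 0, 1, 1; 0, 0, 0, 1] !![0, 0, 0, 0; 0, 0, 0, 0; 0, 0, 0, 0; 0, 0, 0, 0]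

def my4 : M8 := Matrix.fromBlocks !![0, 1, 0, 0; 0, 0, 0, 0; 0, 0, 0, 1; 0, 0, 0, 0] !![1, 0, 0, 0; 1, 0, 0, 0; 0, 0, 1, 0; 0, 0, 1, 0]
  !![0, 0, 0, 0; 1, 0, 0, 0; 0, 0, 0, 0; 0, 0, 1, 0] !![0, 1, 0, 0; 1, 1, 0, 0; 0, 0, 0, 1; 0, 0, 1, 1]

def mu1 : M8 := Matrix.fromBlocks !![0, 0, 0, 0; 0, 0, 0, 0; 1, 1, 0, 0; 0, 0, 0, 0] !![1, 1, 1, 0; 0, 0, 1, 0; 0, 1, 0, 0; 0, 0, 0, 1]
  !![1, 0, 0, 0; 0, 1, 1, 0; 0, 0, 0, 0; 0, 0, 0, 1] !![1, 1, 1, 0; 0, 1, 0, 0; 0, 1, 1, 0; 0, 0, 0, 1]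

def mu2 : M8 := Matrix.fromBlocks !![1, 1, 1, 0; 0, 0, 0, 0; 0, 1, 1, 0; 0, 0, 0, 1] !![1, 1, 0, 0; 0, 1, 1, 0; 1, 0, 0, 0; 0, 0, 0, 1]
  !![1, 1, 1, 0; 1, 0, 1, 0; 0, 1, 1, 0; 0, 0, 0, 1] !![0, 0, 1, 0; 0, 0, 1, 0; 0, 0, 1, 0; 0, 0, 0, 0]

def mu3 : M8 := Matrix.fromBlocks !![0, 0, 1, 0; 0, 1, 1, 0; 0, 1, 0, 0; 0, 0, 0, 1] !![0, 0, 1, 0; 0, 0, 1, 0; 1, 0, 0, 0; 0, 0, 0, 0]
  !![1, 1, 0, 0; 1, 1, 0, 0; 1, 1, 0, 0; 0, 0, 0, 0] !![1, 1, 1, 0; 1, 1, 0, 0; 0, 0, 0, 0; 0, 0, 0, 1]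

def mu6 : M8 := Matrix.fromBlocks !![1, 0, 0, 0; 1, 1, 1, 0; 1, 0, 1, 0; 0, 0, 0, 1] !![1, 0, 0, 0; 1, 0, 1, 0; 1, 1, 0, 0; 0, 0, 0, 0]
  !![1, 0, 0, 0; 0, 1, 0, 0; 0, 1, 0, 0; 0, 0, 0, 0] !![0, 0, 1, 0; 0, 0, 1, 0; 0, 0, 0, 0; 0, 0, 0, 1]

def mu7 : M8 := Matrix.fromBlocks !![1, 0, 0, 0; 0, 1, 0, 0; 0, 0, 1, 0; 0, 0, 0, 0] !![0, 0, 0, 0; 0, 0, 0, 0; 0, 0, 0, 0; 0, 0, 0, 1]
  !![0, 0, 0, 0; 0, 0, 0, 0; 0, 0, 0, 0; 0, 0, 0, 1] !![1, 0, 0, 0; 0, 1, 0, 0; 0, 0, 1, 0; 0, 0, 0, 1]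

def mu14 : M8 := Matrix.fromBlocks !![1, 0, 0, 0; 0, 1, 0, 0; 0, 0, 1, 0; 0, 0, 0, 1] !![0, 0, 0, 0; 0, 0, 0, 0; 0, 0, 0, 0; 0, 0, 0, 1]
  !![0, 0, 0, 0; 0, 0, 0, 0; 0, 0, 0, 0; 0, 0, 0, 1] !![1, 0, 0, 0; 0, 1, 0, 0; 0, 0, 1, 0; 0, 0, 0, 0]

def mg1 : M8 := Matrix.fromBlocks !![1, 1, 0, 0; 0, 1, 1, 0; 1, 0, 0, 0; 0, 0, 0, 1] !![0, 1, 0, 0; 0, 1, 0, 0; 0, 0, 0, 0; 0, 0, 0, 0]
  !![1, 0, 0, 0; 1, 1, 1, 0; 0, 0, 1, 0; 0, 0, 0, 0] !![0, 1, 1, 0; 0, 1, 1, 0; 1, 1, 1, 0; 0, 0, 0, 1]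

def mg2 : M8 := Matrix.fromBlocks !![0, 1, 0, 0; 0, 0, 0, 0; 1, 1, 0, 0; 0, 0, 0, 1] !![0, 1, 1, 0; 0, 0, 1, 0; 0, 1, 0, 0; 0, 0, 0, 0]
  !![0, 0, 0, 0; 1, 1, 1, 0; 1, 1, 0, 0; 0, 0, 0, 0] !![1, 1, 0, 0; 1, 0, 0, 0; 1, 1, 1, 0; 0, 0, 0, 1]

def mg3 : M8 := Matrix.fromBlocks !![1, 0, 1, 0; 0, 0, 1, 0; 0, 1, 0, 0; 0, 0, 0, 1] !![1, 1, 0, 0; 1, 1, 1, 0; 0, 1, 1, 0; 0, 0, 0, 0]
  !![0, 1, 1, 0; 1, 0, 1, 0; 1, 1, 1, 0; 0, 0, 0, 0] !![0, 0, 0, 0; 0, 1, 1, 0; 1, 1, 1, 0; 0, 0, 0, 1]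

def mg6 : M8 := Matrix.fromBlocks !![0, 0, 1, 0; 0, 1, 1, 0; 0, 1, 1, 0; 0, 0, 0, 1] !![1, 1, 0, 0; 1, 1, 1, 0; 0, 1, 1, 0; 0, 0, 0, 0]
  !![0, 1, 1, 0; 1, 0, 1, 0; 1, 1, 1, 0; 0, 0, 0, 0] !![1, 0, 0, 0; 0, 0, 1, 0; 1, 1, 0, 0; 0, 0, 0, 1]

def mz1 : M8 := Matrix.fromBlocks !![0, 1, 0, 0; 1, 1, 0, 0; 0, 0, 0, 0; 0, 0, 0, 0] !![1, 1, 0, 0; 0, 0, 0, 0; 0, 0, 1, 0; 0, 0, 0, 1]
  !![0, 1, 0, 0; 0, 0, 0, 0; 0, 0, 1, 0; 0, 0, 0, 1] !![0, 0, 0, 0; 1, 0, 0, 0; 0, 0, 1, 0; 0, 0, 0, 1]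

def mz2 : M8 := Matrix.fromBlocks !![1, 0, 0, 0; 1, 0, 0, 0; 0, 0, 1, 0; 0, 0, 0, 1] !![1, 0, 0, 0; 1, 1, 0, 0; 0, 0, 1, 0; 0, 0, 0, 1]
  !![1, 1, 0, 0; 0, 1, 0, 0; 0, 0, 1, 0; 0, 0, 0, 1] !![0, 0, 0, 0; 0, 0, 0, 0; 0, 0, 0, 0; 0, 0, 0, 0]

def mz3 : M8 := Matrix.fromBlocks !![0, 0, 0, 0; 0, 0, 0, 0; 0, 0, 1, 0; 0, 0, 0, 1] !![1, 1, 0, 0; 0, 1, 0, 0; 0, 0, 0, 0; 0, 0, 0, 0]
  !![1, 0, 0, 0; 1, 1, 0, 0; 0, 0, 0, 0; 0, 0, 0, 0] !![1, 1, 0, 0; 0, 0, 0, 0; 0, 0, 1, 0; 0, 0, 0, 1]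

def mz5 : M8 := Matrix.fromBlocks !![1, 0, 0, 0; 0, 1, 0, 0; 0, 0, 1, 0; 0, 0, 0, 1] !![0, 0, 0, 0; 0, 0, 0, 0; 0, 0, 1, 0; 0, 0, 0, 1]
  !![0, 0, 0, 0; 0, 0, 0, 0; 0, 0, 1, 0; 0, 0, 0, 1] !![1, 0, 0, 0; 0, 1, 0, 0; 0, 0, 0, 0; 0, 0, 0, 0]

def mz10 : M8 := Matrix.fromBlocks !![1, 0, 0, 0; 0, 1, 0, 0; 0, 0, 0, 0; 0, 0, 0, 0] !![0, 0, 0, 0; 0, 0, 0, 0; 0, 0, 1, 0; 0, 0, 0, 1]
  !![0, 0, 0, 0; 0, 0, 0, 0; 0, 0, 1, 0; 0, 0, 0, 1] !![1, 0, 0, 0; 0, 1, 0, 0; 0, 0, 1, 0; 0, 0, 0, 1]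

def ms1 : M8 := Matrix.fromBlocks !![0, 0, 1, 0; 0, 0, 0, 1; 1, 0, 0, 0; 0, 1, 0, 0] !![0, 0, 0, 0; 0, 0, 0, 0; 0, 0, 0, 0; 0, 0, 0, 0]
  !![0, 0, 0, 0; 0, 0, 0, 0; 0, 0, 0, 0; 0, 0, 0, 0] !![0, 0, 1, 0; 0, 0, 0, 1; 1, 0, 0, 0; 0, 1, 0, 0]

def mt1 : M8 := Matrix.fromBlocks !![0, 1, 1, 0; 1, 1, 1, 0; 1, 0, 1, 1; 1, 0, 1, 0] !![0, 0, 0, 1; 0, 1, 1, 0; 0, 1, 0, 0; 1, 0, 0, 1]
  !![1, 1, 0, 1; 1, 1, 1, 0; 0, 1, 1, 1; 1, 0, 1, 1] !![1, 1, 1, 1; 1, 0, 0, 0; 1, 1, 0, 1; 0, 0, 1, 1]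

def mt2 : M8 := Matrix.fromBlocks !![1, 1, 1, 0; 1, 0, 1, 0; 1, 0, 0, 1; 1, 0, 1, 1] !![0, 0, 0, 1; 0, 1, 1, 0; 0, 1, 0, 0; 1, 0, 0, 1]
  !![1, 1, 0, 1; 1, 1, 1, 0; 0, 1, 1, 1; 1, 0, 1, 1] !![0, 1, 1, 1; 1, 1, 0, 0; 1, 1, 1, 1; 0, 0, 1, 0]

theorem my_mul2 : my1 * my1 = my2 := by decide +kernel

theorem my_mul4 : my2 * my2 = my4 := by decide +kernel

theorem my_mul5 : my4 * my1 = 1 := by decide +kernel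

theorem mu_mul2 : mu1 * mu1 = mu2 := by decide +kernel

theorem mu_mul3 : mu2 * mu1 = mu3 := by decide +kernel

theorem mu_mul6 : mu3 * mu3 = mu6 := by decide +kernel

theorem mu_mul7 : mu6 * mu1 = mu7 := by decide +kernel

theorem mu_mul14 : mu7 * mu7 = mu14 := by decide +kernel

theorem mu_mul21 : mu14 * mu7 = 1 := by decide +kernel

theorem mg_mul2 : mg1 * mg1 = mg2 := by decide +kernel

theorem mg_mul3 : mg2 * mg1 = mg3 := by decide +kernel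

theorem mg_mul6 : mg3 * mg3 = mg6 := by decide +kernel

theorem mg_mul9 : mg6 * mg3 = 1 := by decide +kernel

theorem mz_mul2 : mz1 * mz1 = mz2 := by decide +kernel

theorem mz_mul3 : mz2 * mz1 = mz3 := by decide +kernel

theorem mz_mul5 : mz3 * mz2 = mz5 := by decide +kernel

theorem mz_mul10 : mz5 * mz5 = mz10 := by decide +kernel

theorem mz_mul15 : mz10 * mz5 = 1 := by decide +kernel

theorem ms_mul2 : ms1 * ms1 = 1 := by decide +kernel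

theorem mt_mul2 : mt1 * mt1 = mt2 := by decide +kernel

theorem mt_mul3 : mt2 * mt1 = 1 := by decide +kernel

theorem my_mem : my1 ∈ Matrix.symplecticGroup (Fin 4) (ZMod 2) := by
  rw [SymplecticGroup.mem_iff]
  decide +kernel

/-- the element `y` -/
def yG : G8 := ⟨my1, my_mem⟩

theorem mu_mem : mu1 ∈ Matrix.symplecticGroup (Fin 4) (ZMod 2) := by
  rw [SymplecticGroup.mem_iff]
  decide +kernel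

/-- the element `u` -/
def uG : G8 := ⟨mu1, mu_mem⟩

theorem mg_mem : mg1 ∈ Matrix.symplecticGroup (Fin 4) (ZMod 2) := by
  rw [SymplecticGroup.mem_iff]
  decide +kernel

/-- the element `g` -/
def gG : G8 := ⟨mg1, mg_mem⟩

theorem mz_mem : mz1 ∈ Matrix.symplecticGroup (Fin 4) (ZMod 2) := by
  rw [SymplecticGroup.mem_iff]
  decide +kernel

/-- the element `z` -/
def zG : G8 := ⟨mz1, mz_mem⟩

theorem ms_mem : ms1 ∈ Matrix.symplecticGroup (Fin 4) (ZMod 2) := by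
  rw [SymplecticGroup.mem_iff]
  decide +kernel

/-- the element `s` -/
def sG : G8 := ⟨ms1, ms_mem⟩

theorem mt_mem : mt1 ∈ Matrix.symplecticGroup (Fin 4) (ZMod 2) := by
  rw [SymplecticGroup.mem_iff]
  decide +kernel

/-- the element `t` -/
def tG : G8 := ⟨mt1, mt_mem⟩

theorem y_pow1 : ((yG ^ 1 : G8) : M8) = my1 := by rw [pow_one]; rfl

theorem y_pow2 : ((yG ^ 2 : G8) : M8) = my2 :=
  (pow_step (a := 1) (b := 1) y_pow1 y_pow1).trans my_mul2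

theorem y_pow4 : ((yG ^ 4 : G8) : M8) = my4 :=
  (pow_step (a := 2) (b := 2) y_pow2 y_pow2).trans my_mul4

theorem y_pow5 : ((yG ^ 5 : G8) : M8) = 1 :=
  (pow_step (a := 4) (b := 1) y_pow4 y_pow1).trans my_mul5

theorem y_one : yG ^ 5 = 1 := Subtype.ext y_pow5

theorem u_pow1 : ((uG ^ 1 : G8) : M8) = mu1 := by rw [pow_one]; rfl

theorem u_pow2 : ((uG ^ 2 : G8) : M8) = mu2 :=
  (pow_step (a := 1) (b := 1) u_pow1 u_pow1).trans mu_mul2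

theorem u_pow3 : ((uG ^ 3 : G8) : M8) = mu3 :=
  (pow_step (a := 2) (b := 1) u_pow2 u_pow1).trans mu_mul3

theorem u_pow6 : ((uG ^ 6 : G8) : M8) = mu6 :=
  (pow_step (a := 3) (b := 3) u_pow3 u_pow3).trans mu_mul6

theorem u_pow7 : ((uG ^ 7 : G8) : M8) = mu7 :=
  (pow_step (a := 6) (b := 1) u_pow6 u_pow1).trans mu_mul7

theorem u_pow14 : ((uG ^ 14 : G8) : M8) = mu14 :=
  (pow_step (a := 7) (b := 7) u_pow7 u_pow7).trans mu_mul14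

theorem u_pow21 : ((uG ^ 21 : G8) : M8) = 1 :=
  (pow_step (a := 14) (b := 7) u_pow14 u_pow7).trans mu_mul21

theorem u_one : uG ^ 21 = 1 := Subtype.ext u_pow21

theorem g_pow1 : ((gG ^ 1 : G8) : M8) = mg1 := by rw [pow_one]; rfl

theorem g_pow2 : ((gG ^ 2 : G8) : M8) = mg2 :=
  (pow_step (a := 1) (b := 1) g_pow1 g_pow1).trans mg_mul2

theorem g_pow3 : ((gG ^ 3 : G8) : M8) = mg3 :=
  (pow_step (a := 2) (b := 1) g_pow2 g_pow1).trans mg_mul3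

theorem g_pow6 : ((gG ^ 6 : G8) : M8) = mg6 :=
  (pow_step (a := 3) (b := 3) g_pow3 g_pow3).trans mg_mul6

theorem g_pow9 : ((gG ^ 9 : G8) : M8) = 1 :=
  (pow_step (a := 6) (b := 3) g_pow6 g_pow3).trans mg_mul9

theorem g_one : gG ^ 9 = 1 := Subtype.ext g_pow9

theorem z_pow1 : ((zG ^ 1 : G8) : M8) = mz1 := by rw [pow_one]; rfl

theorem z_pow2 : ((zG ^ 2 : G8) : M8) = mz2 :=
  (pow_step (a := 1) (b := 1) z_pow1 z_pow1).trans mz_mul2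

theorem z_pow3 : ((zG ^ 3 : G8) : M8) = mz3 :=
  (pow_step (a := 2) (b := 1) z_pow2 z_pow1).trans mz_mul3

theorem z_pow5 : ((zG ^ 5 : G8) : M8) = mz5 :=
  (pow_step (a := 3) (b := 2) z_pow3 z_pow2).trans mz_mul5

theorem z_pow10 : ((zG ^ 10 : G8) : M8) = mz10 :=
  (pow_step (a := 5) (b := 5) z_pow5 z_pow5).trans mz_mul10

theorem z_pow15 : ((zG ^ 15 : G8) : M8) = 1 :=
  (pow_step (a := 10) (b := 5) z_pow10 z_pow5).trans mz_mul15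

theorem z_one : zG ^ 15 = 1 := Subtype.ext z_pow15

theorem s_pow1 : ((sG ^ 1 : G8) : M8) = ms1 := by rw [pow_one]; rfl

theorem s_pow2 : ((sG ^ 2 : G8) : M8) = 1 :=
  (pow_step (a := 1) (b := 1) s_pow1 s_pow1).trans ms_mul2

theorem s_one : sG ^ 2 = 1 := Subtype.ext s_pow2

theorem t_pow1 : ((tG ^ 1 : G8) : M8) = mt1 := by rw [pow_one]; rfl

theorem t_pow2 : ((tG ^ 2 : G8) : M8) = mt2 :=
  (pow_step (a := 1) (b := 1) t_pow1 t_pow1).trans mt_mul2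

theorem t_pow3 : ((tG ^ 3 : G8) : M8) = 1 :=
  (pow_step (a := 2) (b := 1) t_pow2 t_pow1).trans mt_mul3

theorem t_one : tG ^ 3 = 1 := Subtype.ext t_pow3

theorem sy_comm : ms1 * my1 = my1 * ms1 := by decide +kernel

theorem ty_comm : mt1 * my1 = my1 * mt1 := by decide +kernel

theorem commute_sy : Commute yG sG := Subtype.ext sy_comm.symm

theorem commute_ty : Commute yG tG := Subtype.ext ty_comm.symm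

theorem s_ne : sG ≠ 1 := fun h => absurd (congrArg Subtype.val h : ms1 = 1) (by decide +kernel)

theorem t_ne : tG ≠ 1 := fun h => absurd (congrArg Subtype.val h : mt1 = 1) (by decide +kernel)

theorem y_ne : yG ≠ 1 := fun h => absurd (congrArg Subtype.val h : my1 = 1) (by decide +kernel)

theorem z5_ne : zG ^ 5 ≠ 1 := fun h => by
  have h1 := congrArg Subtype.val h
  rw [z_pow5] at h1
  exact absurd (h1 : mz5 = 1) (by decide +kernel)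

theorem u3_ne : uG ^ 3 ≠ 1 := fun h => by
  have h1 := congrArg Subtype.val h
  rw [u_pow3] at h1
  exact absurd (h1 : mu3 = 1) (by decide +kernel)

theorem y_fix : ∀ v, (yG : M8) *ᵥ v = v → v = 0 := by
  change ∀ v, my1 *ᵥ v = v → v = 0
  decide +kernel

theorem u_fix : ∀ v, (uG : M8) *ᵥ v = v → v = 0 := by
  change ∀ v, mu1 *ᵥ v = v → v = 0
  decide +kernel

/-- the count of `nfix_eq` -/
def cnt (A : M8) : ℕ := (Finset.univ.filter fun a : V8 => q0 a = 0 ∧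
    ∀ i, qa a (A *ᵥ Pi.single i 1) = qa a (Pi.single i 1)).card

theorem cnt_y : cnt my1 = 1 := by decide +kernel

theorem cnt_u : cnt mu1 = 0 := by decide +kernel

theorem cnt_u3 : cnt mu3 = 3 := by decide +kernel

theorem cnt_g3 : cnt mg3 = 1 := by decide +kernel

theorem cnt_z : cnt mz1 = 0 := by decide +kernel

theorem cnt_z5 : cnt mz5 = 10 := by decide +kernel

theorem nfix_cnt (A : G8) : nfix A = cnt (A : M8) := nfix_eq A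

theorem nfix_y : nfix yG = 1 := (nfix_cnt _).trans cnt_y

theorem nfix_u : nfix uG = 0 := (nfix_cnt _).trans cnt_u

theorem nfix_u3 : nfix (uG ^ 3) = 3 := by rw [nfix_cnt, u_pow3, cnt_u3]

theorem nfix_g3 : nfix (gG ^ 3) = 1 := by rw [nfix_cnt, g_pow3, cnt_g3]

theorem nfix_z : nfix zG = 0 := (nfix_cnt _).trans cnt_z

theorem nfix_z5 : nfix (zG ^ 5) = 10 := by rw [nfix_cnt, z_pow5, cnt_z5]

end Cfsg.Agent.H901.Der
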