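import Cfsg.Agent.H901.Der.SpThree
import Cfsg.Agent.H388.Der.RowPSp

/-!
# S3502: `PSp_2m(q)`, `m ≥ 3`, `(m, q) ≠ (3, 2), (3, 3), (4, 2)` (helper901)

* `psp_class` : the case division for proper subgroups of `PSp_2m(q)`
* `three_psp` : every proper subgroup has three missing classes
-/

set_option autoImplicit false
set_option linter.style.haveILetI false

namespace Cfsg.Agent.H901.Der

open Matrix Cfsg Cfsg.Geo Cfsg.Agent.H439.Der Cfsg.Agent.H876 Cfsg.Agent.H262.El Cfsg.Agent.OrdDiv Cfsg.Agent.H436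
  Cfsg.Agent.H264.FKS Cfsg.Agent.H915.GN
open Cfsg.Agent.H278.El.SporNum (IsCl exc)
open Cfsg.Agent.H278.El.AltNum (dimOf surv)
open Cfsg.Agent.H938.Sax (PGap)
open Cfsg.Agent.H388.Der (hker_sp' od_of_prim num_of_od d₁ d₁_fix orderOf_d₁ blk_of_od blk_seven)

variable {F : Type} [Field F] [Fintype F]

/-- **The proper subgroups of `PSp_2m(q)`**, `m ≥ 3`, `(m, q) ≠ (3, 2), (4, 2)`. -/
theorem psp_class (tab : OrderTable.{0}) (hK : ∀ (X : Type) [Group X] [Finite X] [IsSimpleGroup X], Cfsg.IsKnownSimple' X)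
    {m p f : ℕ} [CharP F p] (hp : p.Prime) (hf : 1 ≤ f) (hF : Fintype.card F = p ^ f) (hm : 3 ≤ m)
    (hex : ¬ (m = 3 ∧ Fintype.card F = 2)) (h42 : ¬ (m = 4 ∧ Fintype.card F = 2)) {R : Subgroup (PSp m F)}
    (hR : R ≠ ⊤) {Q : Prop} (q1 : PGap (PSp m F) R → Q) (q2 : Cfsg.Agent.H901.SaxSp.InOMinus m F (pre R) → Q)
    (q3 : ∀ (S : Subgroup R) [S.Normal] [IsSimpleGroup S], ¬ IsMulCommutative S →
      Subgroup.centralizer (S : Set R) = ⊥ → ∀ g : Grp, IsNamed g S → g = .ominus m (p ^ f) → m % 2 = 0 → Q) : Q := by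
  have hfin : Finite (PSp m F) := Quotient.finite _
  rcases Cfsg.Agent.H901.SaxSp.psp_cases (F := F) (m := m) (by omega) (fun h => by omega) hex (fun h => by omega) hR with
    h | ⟨P, hP, -⟩ | h | ⟨h, -⟩
  · exact q1 h
  · have hT : IsNamed (.psp m (Fintype.card F)) (PSp m F) := named_psp (F := F) (n := m) (by omega) (by omega)
    obtain ⟨S, hSn, hSs, hna, hC, ⟨e⟩⟩ := exists_socle
      (spToGL m F) spToGL_injective _ (QuotientGroup.mk'_surjective _) hker_sp' hP
    obtain ⟨g, hg⟩ := exists_named tab (hK S) fun h => hna ⟨⟨h⟩⟩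
    refine Cfsg.Agent.H278.El.Asm.res_kill (p := p) (Q := Q) hT trivial ?_ ?_ S hC hg e ?_ q1 ?_ ?_
    · simp only [surv, List.mem_cons, Grp.psp.injEq, reduceCtorEq, or_false, false_or, List.not_mem_nil, not_or]
      exact ⟨by omega, by omega, by omega, by omega⟩
    · intro g' hg'
      simp only [exc, List.mem_cons, Prod.mk.injEq, reduceCtorEq, and_false, or_false, List.not_mem_nil] at hg'
    · rw [Fintype.card_sum, Fintype.card_fin]
      exact (two_mul m).symm
    · intro hch
      by_cases hfull : Full (PSp m F) R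
      · rw [hF] at hT
        obtain ⟨h1, h2⟩ := full_psp hT hp hf hm (fun h => by
            obtain ⟨rfl, h⟩ := h
            have h3 : f * 6 ≤ f * (2 * m) := Nat.mul_le_mul_left f (by omega)
            have h4 : f = 1 := by omega
            subst h4
            exact hex ⟨by omega, by rw [hF]; norm_num⟩) (fun h => by
            obtain ⟨rfl, h⟩ := h
            have h3 : f * 4 ≤ f * (2 * (m - 1)) := Nat.mul_le_mul_left f (by omega)
            have h4 : f = 1 := by omega
            subst h4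
            exact h42 ⟨by omega, by rw [hF]; norm_num⟩) hR hfull S hna hC hg hch
        exact q3 S hna hC g hg h2 h1
      · refine q1 ?_
        unfold Full at hfull
        push Not at hfull
        obtain ⟨r, h1, h2, h3⟩ := hfull
        exact ⟨r, h1, h2, h3⟩
    · intro s hs hsp hch
      rcases Cfsg.Agent.H884.Cx.cross_row (p := p) hp hT trivial ⟨f, hF⟩ (F := F) (ι := Fin m ⊕ Fin m) (by
          rw [Fintype.card_sum, Fintype.card_fin]; exact (two_mul m).symm) S hna hC hP.perfect e hs hsp hg hch with h | h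
      · exact q1 h
      · exfalso
        simp only [Cfsg.Agent.H884.Cx.excP, List.mem_cons, Prod.mk.injEq, Grp.psp.injEq, reduceCtorEq, and_false,
          or_false, false_or, List.not_mem_nil] at h
        omega
  · exact q2 h
  · omega

/-- `8 ∣ q ^ (2 k) - 1`, `q` odd -/
theorem eight_dvd {q k : ℕ} (hq : Odd q) : 8 ∣ q ^ (k + k) - 1 := by
  have h1 : q ^ (k + k) = (q ^ k) ^ 2 := by rw [← pow_mul, mul_comm, two_mul]
  rw [h1]
  have h2 : Odd (q ^ k) := hq.pow
  obtain ⟨j, hj⟩ := h2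
  rw [hj]
  have h3 : (2 * j + 1) ^ 2 - 1 = 4 * (j * (j + 1)) := by
    have : (2 * j + 1) ^ 2 = 4 * (j * (j + 1)) + 1 := by ring
    omega
  rw [h3]
  obtain ⟨l, hl⟩ := Nat.even_mul_succ_self j
  rw [hl]
  exact ⟨l, by ring⟩

/-- the element of order `r` without fixed vectors and its centralizer -/
theorem exists_y₂ {p f k r : ℕ} (hp : p.Prime) (hf : 1 ≤ f) (hF : Fintype.card F = p ^ f) (hk : 2 ≤ k)
    (h22 : ¬ (k = 2 ∧ Fintype.card F = 2))
    (hr : (Prim (Fintype.card F) (k + k) r) ∨ (Fintype.card F = 2 ∧ k = 3 ∧ r = 7)) (hr5 : 5 ≤ r) :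
    ∃ y : Matrix.symplecticGroup (Fin (k + k)) F, orderOf y = r ∧
      (∀ v, (y : Matrix (Fin (k + k) ⊕ Fin (k + k)) (Fin (k + k) ⊕ Fin (k + k)) F) *ᵥ v = v → v = 0) ∧
      ∀ R : Subgroup (PSp (k + k) F), (∀ φ : PSp (k + k) F ≃* PSp (k + k) F, φ (QuotientGroup.mk y) ∉ R) →
        Three (PSp (k + k) F) R := by
  have hrp : r.Prime := by
    rcases hr with hr | ⟨-, -, rfl⟩
    · exact hr.prime
    · norm_num
  have hq1 : 1 ≤ Fintype.card F := Fintype.card_pos
  have hrd : r ∣ Fintype.card F ^ (k + k) - 1 := by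
    rcases hr with hr | ⟨h1, rfl, rfl⟩
    · exact (hr.dvd_iff _).2 dvd_rfl
    · rw [h1]; norm_num
  obtain ⟨A, hA, hR⟩ := tor_plus (F := F) (m := k + k) (by omega)
  have h2c := dvd_two_mul_orderOf_mk A
  rw [hA] at h2c
  rcases hp.eq_two_or_odd' with rfl | hodd
  · have hchar : CharP F 2 := by
      obtain ⟨p', hp'⟩ := CharP.exists F
      have hpp : p'.Prime := CharP.char_is_prime F p'
      obtain ⟨n, -, hn⟩ := FiniteField.card F p'
      have h2 : p' ∣ 2 ^ f := by rw [← hF, hn]; exact dvd_pow_self _ n.ne_zero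
      have h3 : p' = 2 := (Nat.prime_dvd_prime_iff_eq hpp Nat.prime_two).1 (hpp.dvd_of_dvd_pow h2)
      rwa [h3] at hp'
    have h20 : (2 : F) = 0 := by exact_mod_cast CharP.cast_eq_zero F 2
    have hc : orderOf (QuotientGroup.mk A : PSp (k + k) F) = Fintype.card F ^ (k + k) - 1 := by
      rw [orderOf_mk_even h20, hA]
    rcases hr with hr | ⟨h1, rfl, rfl⟩
    · have hqk : 1 < Fintype.card F ^ k := Nat.one_lt_pow (by omega) (by
        rw [hF]; exact Nat.one_lt_pow (by omega) (by norm_num))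
      have hfac : Fintype.card F ^ (k + k) - 1 = (Fintype.card F ^ k + 1) * (Fintype.card F ^ k - 1) := by
        rw [← two_mul, mul_comm 2 k, pow_mul]
        have := Nat.sq_sub_sq (Fintype.card F ^ k) 1
        simpa using this
      have hndvd : ¬ r ∣ Fintype.card F ^ k - 1 := by
        rw [hr.dvd_iff]
        intro h
        have := Nat.le_of_dvd (by omega) h
        omega
      have hfk : 3 ≤ f * k := by
        by_contra hlt
        have h3 : 1 * 2 ≤ f * k := Nat.mul_le_mul hf hk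
        have h4 : f * 2 ≤ f * k := Nat.mul_le_mul_left f hk
        have h5 : f = 1 := by omega
        subst h5
        exact h22 ⟨by omega, by rw [hF, pow_one]⟩
      have h8 : 8 ≤ Fintype.card F ^ k := by
        rw [hF, ← pow_mul]
        calc 8 = 2 ^ 3 := by norm_num
          _ ≤ 2 ^ (f * k) := Nat.pow_le_pow_right (by norm_num) hfk
      refine sing_core hR (s := 3) (t := Fintype.card F ^ k - 1) hrp (by omega) (by rw [hA]; exact hrd) ?_ ?_ ?_ ?_
        (by norm_num) (by omega) (by omega)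
      · rw [hc, hF, ← pow_mul]
        have h9 : f * (k + k) = 2 * (f * k) := by ring
        rw [h9, pow_mul]
        have h10 : (2 ^ 2) ^ (f * k) ≡ 1 [MOD 3] := by
          have : (2 ^ 2) ≡ 1 [MOD 3] := by decide
          simpa using this.pow (f * k)
        exact (Nat.modEq_iff_dvd' (Nat.one_le_pow _ _ (by norm_num))).1 h10.symm
      · rw [hc, hfac]; exact dvd_mul_left _ _
      · exact (Nat.coprime_primes hrp Nat.prime_three).2 (by omega)
      · exact (Nat.Prime.coprime_iff_not_dvd hrp).2 hndvd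
    · refine sing_core hR (s := 3) (t := 9) hrp (by norm_num) (by rw [hA]; exact hrd) ?_ ?_ (by norm_num) (by norm_num)
        (by norm_num) (by norm_num) (by norm_num)
      · rw [hc, h1]; norm_num
      · rw [hc, h1]; norm_num
  · have ho : Odd (Fintype.card F) := by rw [hF]; exact hodd.pow
    have h8 : 8 ∣ 2 * orderOf (QuotientGroup.mk A : PSp (k + k) F) := (eight_dvd ho).trans h2c
    have h4 : 4 ∣ orderOf (QuotientGroup.mk A : PSp (k + k) F) := by omega
    refine sing_core hR (s := 2) (t := 4) hrp (by omega) (by rw [hA]; exact hrd) ((by norm_num : 2 ∣ 4).trans h4) h4 ?_ ?_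
      (by norm_num) (by norm_num) (by norm_num)
    · exact (Nat.coprime_primes hrp Nat.prime_two).2 (by omega)
    · exact Nat.Coprime.pow_right 2 ((Nat.coprime_primes hrp Nat.prime_two).2 (by omega))

/-- subgroups with cyclic Sylow `r`-subgroups -/
theorem three_of_cyc {k r : ℕ} (hk : 2 ≤ k) (hr : r.Prime) (hr5 : 5 ≤ r)
    {b : Matrix.symplecticGroup (Fin k) F} (hb : orderOf b = r)
    {y : Matrix.symplecticGroup (Fin (k + k)) F} (hy : orderOf y = r)
    (hyf : ∀ v, (y : Matrix (Fin (k + k) ⊕ Fin (k + k)) (Fin (k + k) ⊕ Fin (k + k)) F) *ᵥ v = v → v = 0)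
    (hy3 : ∀ R : Subgroup (PSp (k + k) F), (∀ φ : PSp (k + k) F ≃* PSp (k + k) F, φ (QuotientGroup.mk y) ∉ R) →
        Three (PSp (k + k) F) R) {R : Subgroup (PSp (k + k) F)} (hR : Cyc r R) : Three (PSp (k + k) F) R := by
  haveI : Fact r.Prime := ⟨hr⟩
  have hfin : Finite (PSp (k + k) F) := Quotient.finite _
  rcases missing_or (F := F) (m := k + k) (by omega) hr (by omega) (y₁ := d₁ b) (y₂ := y) (by rw [orderOf_d₁, hb]) hy
    (d₁_fix (by omega) b) hyf (R := R) (fun a b ha hb => hR.exists_conj ha hb) with h | h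
  · exact three_d₁ (by omega) hr hr5 hb h
  · exact hy3 R h

/-- **Every proper subgroup of `PSp_2m(q)` has three missing classes**, `m ≥ 3`, `(m, q) ≠ (3, 2), (3, 3), (4, 2)`. -/
theorem three_psp (tab : OrderTable.{0}) (hK : ∀ (X : Type) [Group X] [Finite X] [IsSimpleGroup X], Cfsg.IsKnownSimple' X)
    {m : ℕ} (hm : 3 ≤ m) (hex : ¬ (m = 3 ∧ Fintype.card F = 2)) (h42 : ¬ (m = 4 ∧ Fintype.card F = 2))
    (h33 : ¬ (m = 3 ∧ Fintype.card F = 3)) {R : Subgroup (PSp m F)} (hR : R ≠ ⊤) : Three (PSp m F) R := by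
  have hfin : Finite (PSp m F) := Quotient.finite _
  have hntc := ntc (F := F) hm hex h42 h33
  obtain ⟨p, hpc⟩ := CharP.exists F
  obtain ⟨f', hp, hF⟩ := FiniteField.card F p
  obtain ⟨f, hff⟩ : ∃ f : ℕ, f = (f' : ℕ) := ⟨_, rfl⟩
  rw [← hff] at hF
  have hf : 1 ≤ f := by rw [hff]; exact f'.pos
  refine psp_class tab hK hp hf hF hm hex h42 hR (Three.of_pgap hntc) ?_ ?_
  · rintro ⟨⟨k, rfl⟩, hodd, hrest⟩
    have hk : 2 ≤ k := by omega
    by_cases h6 : p = 2 ∧ f * (k + k) = 6
    · obtain ⟨rfl, h6⟩ := h6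
      have hf1 : f = 1 := by
        have h7 : f * 4 ≤ f * (k + k) := Nat.mul_le_mul_left f (by omega)
        omega
      subst hf1
      have hk3 : k = 3 := by omega
      subst hk3
      have hF2 : Fintype.card F = 2 := by rw [hF]; norm_num
      obtain ⟨y, hy, hyf, hy3⟩ := exists_y₂ (F := F) (k := 3) (r := 7) hp hf hF (by norm_num) (by norm_num)
        (Or.inr ⟨hF2, rfl, rfl⟩) (by norm_num)
      refine hy3 R (missing_minus (by omega) (by norm_num) (by norm_num) ?_ hy hyf ⟨⟨3, rfl⟩, hodd, hrest⟩)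
      rw [hF2]
      decide
    · obtain ⟨r, hr, hlt⟩ := exists_big (p := p) (f := f) (n := k + k) hp hf (by omega) h6
      have hr5 : 5 ≤ r := five_le_of_prim (by omega) hr
      have hod := od_of_prim hr
      rw [← hF] at hod hr
      obtain ⟨y, hy, hyf, hy3⟩ := exists_y₂ (F := F) (k := k) (r := r) hp hf hF hk (fun h => h42 ⟨by omega, h.2⟩)
        (Or.inl hr) hr5
      exact hy3 R (missing_minus (by omega) hr.prime (by omega) (num_of_od (by omega) hod (by omega)) hy hyf
        ⟨⟨k, rfl⟩, hodd, hrest⟩)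
  · intro S hSn hSs hna hC g hS hg hm2
    obtain ⟨k, rfl⟩ : ∃ k, m = k + k := ⟨m / 2, by omega⟩
    have hk : 2 ≤ k := by omega
    by_cases h6 : p = 2 ∧ f * (k + k) = 6
    · obtain ⟨rfl, h6⟩ := h6
      have hf1 : f = 1 := by
        have h7 : f * 4 ≤ f * (k + k) := Nat.mul_le_mul_left f (by omega)
        omega
      subst hf1
      have hk3 : k = 3 := by omega
      subst hk3
      have hF2 : Fintype.card F = 2 := by rw [hF]; norm_num
      obtain ⟨y, hy, hyf, hy3⟩ := exists_y₂ (F := F) (k := 3) (r := 7) hp hf hF (by norm_num) (by norm_num)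
        (Or.inr ⟨hF2, rfl, rfl⟩) (by norm_num)
      obtain ⟨b, hb, -⟩ := blk_seven (F := F) hF2
      exact three_of_cyc (by norm_num) (by norm_num) (by norm_num) hb hy hyf hy3 (cyc_six S hna hC (Or.inl hg) hS)
    · obtain ⟨r, hr, hlt⟩ := exists_big (p := p) (f := f) (n := k + k) hp hf (by omega) h6
      have hr5 : 5 ≤ r := five_le_of_prim (by omega) hr
      have hcyc : Cyc r R := cyc_four S hna hC (Or.inl hg) hS hp hf hr hlt (by omega) (by omega)
      obtain ⟨b, hb, -⟩ := blk_of_od (F := F) (k := k) (r := r) (by omega) (by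
        rw [hF, two_mul]; exact od_of_prim hr)
      rw [← hF] at hr
      obtain ⟨y, hy, hyf, hy3⟩ := exists_y₂ (F := F) (k := k) (r := r) hp hf hF hk (fun h => h42 ⟨by omega, h.2⟩)
        (Or.inl hr) hr5
      exact three_of_cyc hk hr.prime hr5 hb hy hyf hy3 hcyc

end Cfsg.Agent.H901.Der
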