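import Cfsg.Agent.H901.Der.SpEightC
import Cfsg.Agent.H901.Der.SpEightM
import Cfsg.Agent.H901.Der.SpRow
import Cfsg.Agent.H503.El.PG
import Cfsg.Agent.LieClassical.FieldTransfer

/-!
# S3502: `PSp₈(2)`
-/

set_option autoImplicit false
set_option linter.style.haveILetI false

namespace Cfsg.Agent.H901.Der

open Matrix Cfsg Cfsg.Geo Cfsg.Agent.H439.Der Cfsg.Agent.H876 Cfsg.Agent.H262.El Cfsg.Agent.OrdDiv Cfsg.Agent.H436
  Cfsg.Agent.H931 Cfsg.Agent.ClassicalGeometry.SympBasic Cfsg.Agent.H264.FKS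
open Cfsg.Agent.H938.Sax (PGap)
open Cfsg.Agent.H388.Der (nsc_psp blk_of_od)

/-- the automorphisms of `PSp₈(2)` are inner -/
theorem aut_sp8 (φ : PSp 4 (ZMod 2) ≃* PSp 4 (ZMod 2)) : ∃ B : G8, ∀ A : G8,
    φ (QuotientGroup.mk A) = QuotientGroup.mk (B * A * B⁻¹) := by
  obtain ⟨σ, μ, T, hμ, ⟨h1, h2, h3⟩, hT⟩ := semi (by norm_num) φ
  have hσ : ∀ a, σ a = a := by
    intro a
    have : a = 0 ∨ a = 1 := (by decide : ∀ x : ZMod 2, x = 0 ∨ x = 1) a
    rcases this with rfl | rfl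
    · exact map_zero σ
    · exact map_one σ
  have hμ1 : μ = 1 := ((by decide : ∀ x : ZMod 2, x = 0 ∨ x = 1) μ).resolve_left hμ
  subst hμ1
  let L : V8 →ₗ[ZMod 2] V8 :=
    { toFun := T
      map_add' := h1
      map_smul' := fun c v => by rw [h2, hσ]; rfl }
  have hL : ∀ v, (LinearMap.toMatrix' L) *ᵥ v = T v := fun v => by
    rw [LinearMap.toMatrix'_mulVec]
    rfl
  have hB : LinearMap.toMatrix' L ∈ Matrix.symplecticGroup (Fin 4) (ZMod 2) := by
    rw [mem_symplecticGroup_iff]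
    intro u v
    rw [hL, hL, h3, hσ, one_mul]
  refine ⟨⟨_, hB⟩, fun A => ?_⟩
  obtain ⟨C, hC, hC'⟩ := hT A
  rw [hC']
  congr 1
  rw [eq_mul_inv_iff_mul_eq]
  apply Subtype.ext
  apply Matrix.toLin'.injective
  apply LinearMap.ext
  intro v
  rw [Matrix.toLin'_apply, Matrix.toLin'_apply, Submonoid.coe_mul, Submonoid.coe_mul, ← Matrix.mulVec_mulVec,
    ← Matrix.mulVec_mulVec, hL, hL]
  exact hC v

theorem mk_inj {A B : G8} (h : (QuotientGroup.mk A : PSp 4 (ZMod 2)) = QuotientGroup.mk B) : A = B := by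
  rw [QuotientGroup.eq] at h
  obtain ⟨c, hc⟩ := (LieClassical.SympCenter.mem_center_iff 4 _).1 h
  have hc2 : c = 0 ∨ c = 1 := (by decide : ∀ x : ZMod 2, x = 0 ∨ x = 1) c
  rcases hc2 with rfl | rfl
  · exfalso
    rw [zero_smul] at hc
    have h1 := mul_inv_mulVec (A⁻¹ * B) (Pi.single (Sum.inl 0) 1)
    rw [show ((A⁻¹ * B : G8) : M8) = 0 from hc, Matrix.zero_mulVec] at h1
    have := congrFun h1 (Sum.inl 0)
    rw [Pi.single_eq_same] at this
    exact zero_ne_one this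
  · rw [one_smul] at hc
    have : A⁻¹ * B = 1 := Subtype.ext hc
    rw [inv_mul_eq_one] at this
    exact this

theorem conj_pow' (A B : G8) (k : ℕ) : (B * A * B⁻¹) ^ k = B * A ^ k * B⁻¹ := by
  rw [conj_pow]

theorem conj_one {A B : G8} {k : ℕ} (h : A ^ k = 1) : (B * A * B⁻¹) ^ k = 1 := by
  rw [conj_pow, h, mul_one, mul_inv_cancel]

theorem conj_ne {A B : G8} {k : ℕ} (h : A ^ k ≠ 1) : (B * A * B⁻¹) ^ k ≠ 1 := fun e => h (by
  rw [conj_pow, mul_inv_eq_one, mul_eq_left] at e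
  exact e)

theorem conj_fix {A B : G8} (h : ∀ v, (A : M8) *ᵥ v = v → v = 0) :
    ∀ v, ((B * A * B⁻¹ : G8) : M8) *ᵥ v = v → v = 0 := by
  intro v hv
  have h1 : (A : M8) *ᵥ (((B⁻¹ : G8) : M8) *ᵥ v) = ((B⁻¹ : G8) : M8) *ᵥ v := by
    have h2 := congrArg (fun w => ((B⁻¹ : G8) : M8) *ᵥ w) hv
    simp only [Submonoid.coe_mul, ← Matrix.mulVec_mulVec, inv_mul_mulVec] at h2
    exact h2
  have h3 := h _ h1
  rw [← mul_inv_mulVec B v, h3, Matrix.mulVec_zero]

theorem comap_card (R : Subgroup (PSp 4 (ZMod 2))) :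
    Nat.card (R.comap (QuotientGroup.mk' (Subgroup.center G8))) = Nat.card R := by
  have hmap : (R.comap (QuotientGroup.mk' (Subgroup.center G8))).map (QuotientGroup.mk' (Subgroup.center G8)) = R :=
    Subgroup.map_comap_eq_self_of_surjective (QuotientGroup.mk'_surjective _) R
  conv_rhs => rw [← hmap]
  exact Nat.card_congr ((R.comap (QuotientGroup.mk' (Subgroup.center G8))).equivMapOfInjective
    (QuotientGroup.mk' (Subgroup.center G8)) fun _ _ h => mk_inj h).toEquiv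

/-- one of the four elements is missing -/
theorem sp8_missing {R : Subgroup (PSp 4 (ZMod 2))} (h13 : ¬ 13 ∣ Nat.card R) (h17 : ¬ 17 ∣ Nat.card R) :
    ∃ A : G8, (∀ φ : PSp 4 (ZMod 2) ≃* PSp 4 (ZMod 2), φ (QuotientGroup.mk A) ∉ R) ∧
      (A = yG ∨ A = uG ∨ A = gG ∨ A = zG) := by
  by_contra hcon
  push Not at hcon
  have key : ∀ A : G8, (A = yG ∨ A = uG ∨ A = gG ∨ A = zG) → ∃ B : G8,
      B * A * B⁻¹ ∈ R.comap (QuotientGroup.mk' (Subgroup.center G8)) := by
    intro A hA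
    by_contra h
    push Not at h
    obtain ⟨h1, h2, h3, h4⟩ := hcon A (fun φ hφ => by
      obtain ⟨B, hB⟩ := aut_sp8 φ
      rw [hB] at hφ
      exact h B hφ)
    rcases hA with h | h | h | h
    · exact h1 h
    · exact h2 h
    · exact h3 h
    · exact h4 h
  obtain ⟨B₁, hB₁⟩ := key yG (Or.inl rfl)
  obtain ⟨B₂, hB₂⟩ := key uG (Or.inr (Or.inl rfl))
  obtain ⟨B₃, hB₃⟩ := key gG (Or.inr (Or.inr (Or.inl rfl)))
  obtain ⟨B₄, hB₄⟩ := key zG (Or.inr (Or.inr (Or.inr rfl)))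
  refine sp8_contra (by rwa [comap_card]) (by rwa [comap_card]) hB₁ hB₂ hB₃ hB₄ (conj_one y_one)
    (conj_fix y_fix) ?_ (conj_one u_one) (conj_ne u3_ne) (conj_fix u_fix) ?_ ?_ (conj_one g_one) ?_ (conj_one z_one)
    (conj_ne z5_ne) ?_ ?_
  · rw [nfix_conj, nfix_y]
  · rw [nfix_conj, nfix_u]
  · rw [conj_pow', nfix_conj, nfix_u3]
  · rw [conj_pow', nfix_conj, nfix_g3]
  · rw [nfix_conj, nfix_z]
  · rw [conj_pow', nfix_conj, nfix_z5]

/-- three classes if `y` is missing -/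
theorem three_of_y {R : Subgroup (PSp 4 (ZMod 2))}
    (h : ∀ φ : PSp 4 (ZMod 2) ≃* PSp 4 (ZMod 2), φ (QuotientGroup.mk yG) ∉ R) : Three (PSp 4 (ZMod 2)) R := by
  have hfin : Finite (PSp 4 (ZMod 2)) := Quotient.finite _
  have := Fact.mk Nat.prime_five
  have h2 : ((2 : ZMod 2)) = 0 := rfl
  have hy : orderOf (QuotientGroup.mk yG : PSp 4 (ZMod 2)) = 5 := by
    rw [orderOf_mk_even h2]
    exact orderOf_eq_prime y_one y_ne
  have hs : orderOf (QuotientGroup.mk sG : PSp 4 (ZMod 2)) = 2 := by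
    rw [orderOf_mk_even h2]
    exact orderOf_eq_prime s_one s_ne
  have ht : orderOf (QuotientGroup.mk tG : PSp 4 (ZMod 2)) = 3 := by
    rw [orderOf_mk_even h2]
    exact orderOf_eq_prime t_one t_ne
  refine three_of_missing h (commute_sy.map (QuotientGroup.mk' (Subgroup.center G8)))
    (commute_ty.map (QuotientGroup.mk' (Subgroup.center G8))) ?_ ?_ ?_ ?_ ?_
  · rw [hy, show orderOf (QuotientGroup.mk' (Subgroup.center G8) sG) = 2 from hs]; norm_num
  · rw [hy, show orderOf (QuotientGroup.mk' (Subgroup.center G8) tG) = 3 from ht]; norm_num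
  · rw [show orderOf (QuotientGroup.mk' (Subgroup.center G8) sG) = 2 from hs]; norm_num
  · rw [show orderOf (QuotientGroup.mk' (Subgroup.center G8) tG) = 3 from ht]; norm_num
  · rw [show orderOf (QuotientGroup.mk' (Subgroup.center G8) sG) = 2 from hs,
      show orderOf (QuotientGroup.mk' (Subgroup.center G8) tG) = 3 from ht]; norm_num

theorem three_sp82' (tab : OrderTable.{0})
    (hK : ∀ (X : Type) [Group X] [Finite X] [IsSimpleGroup X], Cfsg.IsKnownSimple' X)
    {R : Subgroup (PSp 4 (ZMod 2))} (hR : R ≠ ⊤) : Three (PSp 4 (ZMod 2)) R := by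
  have hfin : Finite (PSp 4 (ZMod 2)) := Quotient.finite _
  have hex : ¬ ((4 : ℕ) = 3 ∧ Fintype.card (ZMod 2) = 2) := by omega
  have hnsc := nsc_psp (F := ZMod 2) (m := 4) (by norm_num) hex
  have hc : Nat.card (PSp 4 (ZMod 2)) = 47377612800 := by
    rw [H732.SelfCent.card_psp_eight (ZMod.card 2)]
    norm_num
  rcases Cfsg.Agent.H503.El.pgap_sp82 tab hK (ZMod 2) (ZMod.card 2) R hR with ⟨v, hv, hvT, hvR⟩ | h
  · by_cases hvs : v ∣ Nat.card (Matrix.symplecticGroup (Fin (4 - 1)) (ZMod 2))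
    · have := Fact.mk hv
      obtain ⟨x, hx⟩ := exists_prime_orderOf_dvd_card' v hvT
      exact Three.of_not_dvd hvR (not_scc_small (by norm_num) hv hvs) ⟨x, by rw [hx]⟩
    · have hv17 : v = 17 := by
        have h1 : v ∣ 2 ^ 16 * (3 ^ 5 * (5 ^ 2 * (7 * 17))) := by
          have h2 := hvT
          rw [hc] at h2
          exact h2
        have h7 : 7 ∣ Nat.card (Matrix.symplecticGroup (Fin (4 - 1)) (ZMod 2)) :=
          dvd_card_sp (j := 3) (by norm_num) le_rfl (by rw [ZMod.card]; norm_num)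
        have h2 : 2 ∣ Nat.card (Matrix.symplecticGroup (Fin (4 - 1)) (ZMod 2)) := two_three (by norm_num) (Or.inl rfl)
        have h3 : 3 ∣ Nat.card (Matrix.symplecticGroup (Fin (4 - 1)) (ZMod 2)) := two_three (by norm_num) (Or.inr rfl)
        have h5 : 5 ∣ Nat.card (Matrix.symplecticGroup (Fin (4 - 1)) (ZMod 2)) := five (by norm_num)
        rw [hv.dvd_mul, hv.dvd_mul, hv.dvd_mul, hv.dvd_mul] at h1
        rcases h1 with h | h | h | h | h
        · rw [(Nat.prime_dvd_prime_iff_eq hv Nat.prime_two).1 (hv.dvd_of_dvd_pow h)] at hvs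
          exact absurd h2 hvs
        · rw [(Nat.prime_dvd_prime_iff_eq hv Nat.prime_three).1 (hv.dvd_of_dvd_pow h)] at hvs
          exact absurd h3 hvs
        · rw [(Nat.prime_dvd_prime_iff_eq hv Nat.prime_five).1 (hv.dvd_of_dvd_pow h)] at hvs
          exact absurd h5 hvs
        · rw [(Nat.prime_dvd_prime_iff_eq hv (by norm_num)).1 h] at hvs
          exact absurd h7 hvs
        · exact (Nat.prime_dvd_prime_iff_eq hv (by norm_num)).1 h
      subst hv17
      have h13 : ¬ 13 ∣ Nat.card R := by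
        intro h
        have h1 := h.trans (Subgroup.card_subgroup_dvd_card R)
        rw [hc] at h1
        norm_num at h1
      obtain ⟨A, hA, hor⟩ := sp8_missing h13 hvR
      refine Three.of_not_SC hvR (hnsc 17 hv hvT) hA ?_
      intro h17
      have h1 : A ^ 5 = 1 ∨ A ^ 21 = 1 ∨ A ^ 9 = 1 ∨ A ^ 15 = 1 := by
        rcases hor with rfl | rfl | rfl | rfl
        · exact Or.inl y_one
        · exact Or.inr (Or.inl u_one)
        · exact Or.inr (Or.inr (Or.inl g_one))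
        · exact Or.inr (Or.inr (Or.inr z_one))
      have h2 : ∀ k : ℕ, A ^ k = 1 → 17 ∣ k := fun k hk =>
        h17.trans (orderOf_dvd_of_pow_eq_one (by rw [← QuotientGroup.mk_pow, hk, QuotientGroup.mk_one]))
      rcases h1 with h | h | h | h
      · exact absurd (h2 _ h) (by norm_num)
      · exact absurd (h2 _ h) (by norm_num)
      · exact absurd (h2 _ h) (by norm_num)
      · exact absurd (h2 _ h) (by norm_num)
  · have h25 : ¬ 5 ^ 2 ∣ Nat.card R := by
      rcases h with h | h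
      · rw [h]; norm_num
      · rw [h]; norm_num
    obtain ⟨b, hb, -⟩ := blk_of_od (F := ZMod 2) (k := 2) (r := 5) (by norm_num) (by rw [ZMod.card]; exact od2_5)
    have := Fact.mk Nat.prime_five
    exact three_of_cyc (F := ZMod 2) (k := 2) (r := 5) le_rfl (by norm_num) le_rfl hb
      (y := yG) (orderOf_eq_prime y_one y_ne) y_fix (fun R' h' => three_of_y h') (cyc_of_card (by norm_num) h25)

theorem three_sp82 {F : Type} [Field F] [Fintype F] (tab : OrderTable.{0})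
    (hK : ∀ (X : Type) [Group X] [Finite X] [IsSimpleGroup X], Cfsg.IsKnownSimple' X) (hF : Fintype.card F = 2)
    {R : Subgroup (PSp 4 F)} (hR : R ≠ ⊤) : Three (PSp 4 F) R := by
  obtain ⟨e⟩ : Nonempty (ZMod 2 ≃+* F) := by
    have hc : Fintype.card (ZMod 2) = Fintype.card F := by rw [ZMod.card, hF]
    exact ⟨FiniteField.ringEquivOfCardEq hc⟩
  let E : PSp 4 (ZMod 2) ≃* PSp 4 F := Cfsg.Agent.LieClassical.FieldTransfer.pspCongr 4 e
  refine Three.congr E (three_sp82' tab hK fun h => hR ?_)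
  rw [eq_top_iff]
  intro x _
  have h1 : E.symm x ∈ R.comap E.toMonoidHom := by rw [h]; exact Subgroup.mem_top _
  rw [Subgroup.mem_comap] at h1
  simpa using h1

end Cfsg.Agent.H901.Der
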