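import Cfsg.Agent.H901.Der.SpSix
import Cfsg.Agent.H901.Der.SpRow
import Cfsg.Agent.LieClassical.FieldTransfer

/-!
# S3502: `PSp₆(3)`
-/

set_option autoImplicit false
set_option linter.style.haveILetI false

namespace Cfsg.Agent.H901.Der

open Matrix Cfsg Cfsg.Geo Cfsg.Agent.H439.Der Cfsg.Agent.H876 Cfsg.Agent.H262.El Cfsg.Agent.OrdDiv Cfsg.Agent.H436
  Cfsg.Agent.H931 Cfsg.Agent.ClassicalGeometry.SympBasic
open Cfsg.Agent.H938.Sax (PGap)
open Cfsg.Agent.H388.Der (nsc_psp)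

section gen

variable {F : Type} [Field F] {m : ℕ}

/-- automorphisms map transvections to transvections -/
theorem aut_tv [Finite F] (hm : 3 ≤ m) (α : PSp m F ≃* PSp m F) {A : Matrix.symplecticGroup (Fin m) F}
    {a : Fin m ⊕ Fin m → F} {c : F} (hA : spToGL m F A = tGL a c) (ha : a ≠ 0) (hc : c ≠ 0) :
    ∃ (b : Fin m ⊕ Fin m → F) (d : F), b ≠ 0 ∧ d ≠ 0 ∧ ∀ R : Subgroup (PSp m F),
      α (QuotientGroup.mk A) ∈ R → tGL b d ∈ pre R := by
  obtain ⟨σ, μ, T, hμ, ⟨h1, h2, h3⟩, hT⟩ := semi hm α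
  obtain ⟨B, hB1, hB2⟩ := hT A
  have h0 : T 0 = 0 := by
    have := h1 0 0
    rw [add_zero] at this
    exact left_eq_add.1 this
  refine ⟨T a, σ c / μ, fun e => ha (T.injective (e.trans h0.symm)),
    div_ne_zero ((map_ne_zero σ).2 hc) hμ, fun R hR => ?_⟩
  rw [hB2, ← mem_pre] at hR
  have e : spToGL m F B = tGL (T a) (σ c / μ) := by
    apply toLE_injective
    apply LinearEquiv.ext
    intro u
    obtain ⟨v, rfl⟩ := T.surjective u
    rw [toLE_apply, toLE_apply, tGL_mulVec, h3, coe_spToGL, hB1]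
    have h4 : (A : Matrix (Fin m ⊕ Fin m) (Fin m ⊕ Fin m) F) *ᵥ v = v + (c * sympForm m F v a) • a := by
      rw [← coe_spToGL, hA, tGL_mulVec]
    rw [h4, h1, h2, map_mul]
    congr 2
    field_simp
  rwa [← e]

theorem exists_pre [Finite F] {R : Subgroup (PSp m F)} {r : ℕ} (hr : r.Prime) (h : r ∣ Nat.card R) :
    ∃ x ∈ pre R, x ^ r = 1 ∧ x ≠ 1 := by
  have := Fact.mk hr
  have hfin : Finite (Matrix.symplecticGroup (Fin m) F) :=
    Finite.of_injective (fun A => (A : Matrix (Fin m ⊕ Fin m) (Fin m ⊕ Fin m) F)) Subtype.val_injective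
  have hmap : (R.comap (QuotientGroup.mk' (Subgroup.center (Matrix.symplecticGroup (Fin m) F)))).map
      (QuotientGroup.mk' (Subgroup.center (Matrix.symplecticGroup (Fin m) F))) = R :=
    Subgroup.map_comap_eq_self_of_surjective (QuotientGroup.mk'_surjective _) R
  have h1 : r ∣ Nat.card (R.comap (QuotientGroup.mk' (Subgroup.center (Matrix.symplecticGroup (Fin m) F)))) := by
    refine h.trans ?_
    conv_lhs => rw [← hmap]
    exact Subgroup.card_map_dvd _ _
  obtain ⟨y, hy⟩ := exists_prime_orderOf_dvd_card' r h1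
  refine ⟨spToGL m F y, ⟨y, y.2, rfl⟩, ?_, ?_⟩
  · have h2 := pow_orderOf_eq_one y
    rw [hy] at h2
    rw [← map_pow, show ((y : Matrix.symplecticGroup (Fin m) F) ^ r) = 1 from congrArg Subtype.val h2, map_one]
  · intro h2
    have h3 : (y : Matrix.symplecticGroup (Fin m) F) = 1 := spToGL_injective (by rw [h2, map_one])
    have h4 : y = 1 := Subtype.ext h3
    rw [h4, orderOf_one] at hy
    exact hr.one_lt.ne hy

end gen

theorem three_psp63' (tab : OrderTable.{0})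
    (hK : ∀ (X : Type) [Group X] [Finite X] [IsSimpleGroup X], Cfsg.IsKnownSimple' X)
    {R : Subgroup (PSp 3 (ZMod 3))} (hR : R ≠ ⊤) : Three (PSp 3 (ZMod 3)) R := by
  have hfin : Finite (PSp 3 (ZMod 3)) := Quotient.finite _
  have hex : ¬ ((3 : ℕ) = 3 ∧ Fintype.card (ZMod 3) = 2) := by rw [ZMod.card]; omega
  have hnsc := nsc_psp (F := ZMod 3) le_rfl hex
  refine psp_class (p := 3) (f := 1) tab hK Nat.prime_three le_rfl (by rw [ZMod.card, pow_one]) le_rfl hex
    (fun h => by omega) hR ?_ (fun ⟨⟨k, hk⟩, _⟩ => by omega) (fun _ _ _ _ _ _ _ _ h => by omega)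
  rintro ⟨v, hv, hvT, hvR⟩
  -- small primes
  have small : ∀ {r : ℕ}, r.Prime → r ∣ Nat.card (Matrix.symplecticGroup (Fin (3 - 1)) (ZMod 3)) →
      r ∣ Nat.card (PSp 3 (ZMod 3)) → ¬ r ∣ Nat.card R → Three (PSp 3 (ZMod 3)) R := by
    intro r hr h1 h3 h2
    have := Fact.mk hr
    obtain ⟨x, hx⟩ := exists_prime_orderOf_dvd_card' r h3
    exact Three.of_not_dvd h2 (not_scc_small le_rfl hr h1) ⟨x, by rw [hx]⟩
  by_cases hvs : v ∣ Nat.card (Matrix.symplecticGroup (Fin (3 - 1)) (ZMod 3))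
  · exact small hv hvs hvT hvR
  have hfin' : Finite (Matrix.symplecticGroup (Fin 3) (ZMod 3)) :=
    Finite.of_injective (fun A => (A : Matrix (Fin 3 ⊕ Fin 3) (Fin 3 ⊕ Fin 3) (ZMod 3))) Subtype.val_injective
  have odd_dvd : ∀ {r : ℕ}, r.Prime → r ≠ 2 → r ∣ Nat.card (Matrix.symplecticGroup (Fin 3) (ZMod 3)) →
      r ∣ Nat.card (PSp 3 (ZMod 3)) := by
    intro r hr hr2 h
    have := Fact.mk hr
    obtain ⟨y, hy⟩ := exists_prime_orderOf_dvd_card' r h
    rw [← Cfsg.Agent.H388.Der.orderOf_mk hr hr2 hy]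
    exact orderOf_dvd_natCard _
  by_cases h5 : 5 ∣ Nat.card R
  swap
  · exact small (by norm_num) (five (by norm_num)) (odd_dvd (by norm_num) (by norm_num) (five (by norm_num))) h5
  have hvSp : v ∣ Nat.card (Matrix.symplecticGroup (Fin 3) (ZMod 3)) := by
    refine hvT.trans ?_
    have := (Subgroup.center (Matrix.symplecticGroup (Fin 3) (ZMod 3))).card_eq_card_quotient_mul_card_subgroup
    exact ⟨_, this⟩
  have h713 : v = 7 ∨ v = 13 := by
    obtain ⟨h7, h⟩ := big_prime (F := ZMod 3) le_rfl hv hvSp hvs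
    rw [ZMod.card] at h
    have h1 : v ∣ 3 ^ 6 - 1 := by
      rcases h with h | ⟨-, h⟩
      · exact (h.dvd_iff (by norm_num) 6).2 (dvd_refl 6)
      · exact (h.dvd_iff (by norm_num) 6).2 (by norm_num)
    have h2 : v ∣ 2 * (2 * (2 * (7 * 13))) := h1
    rw [hv.dvd_mul, hv.dvd_mul, hv.dvd_mul, hv.dvd_mul, Nat.prime_dvd_prime_iff_eq hv (by norm_num),
      Nat.prime_dvd_prime_iff_eq hv (by norm_num), Nat.prime_dvd_prime_iff_eq hv (by norm_num)] at h2
    omega
  -- the class of transvections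
  have h7T : 7 ∣ Nat.card (PSp 3 (ZMod 3)) := odd_dvd (by norm_num) (by norm_num)
    (dvd_card_sp (j := 3) (by norm_num) le_rfl (by rw [ZMod.card]; norm_num))
  have h13T : 13 ∣ Nat.card (PSp 3 (ZMod 3)) := odd_dvd (by norm_num) (by norm_num)
    (dvd_card_sp (j := 3) (by norm_num) le_rfl (by rw [ZMod.card]; norm_num))
  have ha : (Pi.single (Sum.inl 0) 1 : Fin 3 ⊕ Fin 3 → ZMod 3) ≠ 0 := by
    intro h
    have := congrFun h (Sum.inl 0)
    rw [Pi.single_eq_same] at this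
    exact one_ne_zero this
  obtain ⟨A, hA⟩ := exists_spToGL (tGL_mem (Pi.single (Sum.inl 0) 1 : Fin 3 ⊕ Fin 3 → ZMod 3) 1)
  have hA3 : (QuotientGroup.mk A : PSp 3 (ZMod 3)) ^ 3 = 1 := by
    have h1 : A ^ 3 = 1 := by
      apply spToGL_injective
      rw [map_pow, hA, map_one]
      exact (tGL_isTv ha one_ne_zero).pow_char (p := 3)
    rw [← QuotientGroup.mk_pow, h1, QuotientGroup.mk_one]
  have tvm : (7 ∣ Nat.card R ∨ 13 ∣ Nat.card R) → ∀ φ : PSp 3 (ZMod 3) ≃* PSp 3 (ZMod 3),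
      φ (QuotientGroup.mk A) ∉ R := by
    intro hor φ hφ
    obtain ⟨b, d, hb, hd, h⟩ := aut_tv le_rfl φ hA ha one_ne_zero
    refine pre_ne hR (le_antisymm (pre_le R) (sp6_full (pre_le R) ?_ hb hd (h R hφ)))
    rcases hor with h7 | h13
    · exact Or.inl (exists_pre (by norm_num) h7)
    · exact Or.inr ⟨exists_pre (by norm_num) h13, exists_pre (by norm_num) h5⟩
  have key : ∀ {r s : ℕ}, r.Prime → s.Prime → r ≠ s → 5 ≤ r → r ∣ Nat.card (PSp 3 (ZMod 3)) →
      s ∣ Nat.card (PSp 3 (ZMod 3)) → (s ∣ Nat.card R → 7 ∣ Nat.card R ∨ 13 ∣ Nat.card R) →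
      ¬ r ∣ Nat.card R → Three (PSp 3 (ZMod 3)) R := by
    intro r s hr hs hrs hr5 h1 h2 h3 h4
    by_cases hsR : s ∣ Nat.card R
    · refine Three.of_not_SC h4 (hnsc r hr h1) (tvm (h3 hsR)) ?_
      intro h6
      have h7 := h6.trans (orderOf_dvd_of_pow_eq_one hA3)
      exact absurd (Nat.le_of_dvd (by norm_num) h7) (by omega)
    · exact Three.of_two_primes hr hs hrs h2 h4 hsR (hnsc r hr h1)
  rcases h713 with rfl | rfl
  · exact key (s := 13) hv (by norm_num) (by norm_num) (by norm_num) h7T h13T (fun h => Or.inr h) hvR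
  · exact key (s := 7) hv (by norm_num) (by norm_num) (by norm_num) h13T h7T (fun h => Or.inl h) hvR

theorem three_psp63 {F : Type} [Field F] [Fintype F] (tab : OrderTable.{0})
    (hK : ∀ (X : Type) [Group X] [Finite X] [IsSimpleGroup X], Cfsg.IsKnownSimple' X) (hF : Fintype.card F = 3)
    {R : Subgroup (PSp 3 F)} (hR : R ≠ ⊤) : Three (PSp 3 F) R := by
  obtain ⟨e⟩ : Nonempty (ZMod 3 ≃+* F) := by
    have hc : Fintype.card (ZMod 3) = Fintype.card F := by rw [ZMod.card, hF]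
    exact ⟨FiniteField.ringEquivOfCardEq hc⟩
  let E : PSp 3 (ZMod 3) ≃* PSp 3 F := Cfsg.Agent.LieClassical.FieldTransfer.pspCongr 3 e
  refine Three.congr E (three_psp63' tab hK fun h => hR ?_)
  rw [eq_top_iff]
  intro x _
  have h1 : E.symm x ∈ R.comap E.toMonoidHom := by rw [h]; exact Subgroup.mem_top _
  rw [Subgroup.mem_comap] at h1
  simpa using h1

end Cfsg.Agent.H901.Der
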