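import Cfsg.Agent.S0000
import Cfsg.Agent.OrdDiv.Table
import Cfsg.Agent.H901.Der.SpSixRow
import Cfsg.Agent.H901.Der.SpEightRow

/-!
# S3502: the row `PSp_2m(q)`, `m ≥ 3`, `(m, q) ≠ (3, 2)`
-/

set_option autoImplicit false

namespace Cfsg.Agent.H901.Der

open Cfsg Cfsg.Agent.OrdDiv Cfsg.Agent.H439.Der

/-- **Every proper subgroup of `PSp_2m(q)` has three missing classes**, `m ≥ 3`, `(m, q) ≠ (3, 2)`. -/
theorem three_psp_all {F : Type} [Field F] [Fintype F] {m : ℕ} (hm : 3 ≤ m)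
    (hex : ¬ (m = 3 ∧ Fintype.card F = 2)) {R : Subgroup (Cfsg.PSp m F)} (hR : R ≠ ⊤) : Three (Cfsg.PSp m F) R := by
  by_cases h42 : m = 4 ∧ Fintype.card F = 2
  · obtain ⟨rfl, h⟩ := h42
    exact three_sp82 OrdDiv.table (fun _ _ _ _ => Cfsg.Agent.S0000.result) h hR
  by_cases h33 : m = 3 ∧ Fintype.card F = 3
  · obtain ⟨rfl, h⟩ := h33
    exact three_psp63 OrdDiv.table (fun _ _ _ _ => Cfsg.Agent.S0000.result) h hR
  exact three_psp OrdDiv.table (fun _ _ _ _ => Cfsg.Agent.S0000.result) hm hex h42 h33 hR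

/-- **The row `PSp_2m(q)`.** -/
theorem rowS_psp {F : Type} [Field F] [Fintype F] {m : ℕ} (hm : 3 ≤ m) (hex : ¬ (m = 3 ∧ Fintype.card F = 2)) :
    RowS (Cfsg.PSp m F) := by
  have hfin : Finite (PSp m F) := Quotient.finite _
  exact RowS.of_three fun _ hM => three_psp_all hm hex hM.1

end Cfsg.Agent.H901.Der
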