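import Cfsg.Agent.H901.Der.SpEightX
import Cfsg.Agent.H262.ElSympPSp

/-!
# Subgroups of `Sp₈(2)` of order prime to `17` (S3502)

`sp8_contra` : no such subgroup meets the four classes of the elements `y` (order `5`), `u` (order `21`), `g` (order `9`)
and `z` (order `15`); by the orbits on the `136` quadratic forms of plus type.
-/

set_option autoImplicit false
set_option linter.unusedSectionVars false

namespace Cfsg.Agent.H901.Der

open Module Cfsg Cfsg.Agent.ClassicalGeometry.SympBasic Cfsg.Agent.H876 Cfsg.Agent.H931 Cfsg.Agent.H262.El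
open scoped Matrix MatrixGroups

section count

variable {G X : Type*} [Group G] [MulAction G X] [Finite X]

/-- fixed points modulo a prime -/
theorem ncard_mod {h : G} {S : Set X} (hS : ∀ x ∈ S, h • x ∈ S) {r : ℕ} (hr : r.Prime)
    (hrS : ∀ x ∈ S, h ^ r • x = x) : S.ncard ≡ {x | x ∈ S ∧ h • x = x}.ncard [MOD r] := by
  classical
  have := Fact.mk hr
  let f : Function.End S := fun x => ⟨h • (x : X), hS x x.2⟩
  have hf : ∀ k : ℕ, ∀ x : S, (((f ^ k) x : S) : X) = h ^ k • (x : X) := by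
    intro k
    induction k with
    | zero => intro x; simp; rfl
    | succ k ih =>
      intro x
      rw [pow_succ]
      change (((f ^ k) (f x) : S) : X) = _
      rw [ih, pow_succ, mul_smul]
  have h1 : f ^ r ^ 1 = 1 := by
    rw [pow_one]
    funext x
    exact Subtype.ext (by rw [hf, hrS x x.2]; rfl)
  have hfin : Finite S := Subtype.finite
  have : Fintype S := Fintype.ofFinite S
  have h2 := Equiv.Perm.card_fixedPoints_modEq h1
  rw [← Nat.card_eq_fintype_card, ← Nat.card_eq_fintype_card] at h2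
  rw [← Nat.card_coe_set_eq, ← Nat.card_coe_set_eq]
  have e : (f.fixedPoints) ≃ {x | x ∈ S ∧ h • x = x} :=
    ⟨fun x => ⟨x.1.1, x.1.2, congrArg Subtype.val x.2⟩, fun x => ⟨⟨x.1, x.2.1⟩, Subtype.ext x.2.2⟩,
      fun x => rfl, fun x => rfl⟩
  rw [← Nat.card_congr e]
  exact h2

/-- free actions -/
theorem card_dvd_free {D α : Type*} [Group D] [Finite D] [Finite α] [MulAction D α]
    (h : ∀ (d : D) (x : α), d • x = x → d = 1) : Nat.card D ∣ Nat.card α := by
  classical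
  have : Fintype α := Fintype.ofFinite α
  have : Fintype D := Fintype.ofFinite D
  have e := MulAction.selfEquivSigmaOrbits D α
  have h1 : ∀ x : α, Nat.card (MulAction.orbit D x) = Nat.card D := by
    intro x
    have h2 := MulAction.orbitEquivQuotientStabilizer D x
    rw [Nat.card_congr h2]
    have h3 : MulAction.stabilizer D x = ⊥ := by
      rw [eq_bot_iff]
      intro d hd
      exact Subgroup.mem_bot.mpr (h d x hd)
    rw [h3]
    exact Nat.card_congr (QuotientGroup.quotientBot (G := D)).toEquiv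
  rw [Nat.card_congr e, Nat.card_sigma]
  exact Finset.dvd_sum fun ω _ => by rw [h1]

/-- cycles of length nine -/
theorem nine_dvd {h : G} {S : Set X} (hS : ∀ x ∈ S, h • x ∈ S) (h9 : h ^ 9 = 1)
    (hfree : ∀ x ∈ S, h ^ 3 • x ≠ x) : 9 ∣ S.ncard := by
  classical
  rcases S.eq_empty_or_nonempty with rfl | ⟨x₀, hx₀⟩
  · rw [Set.ncard_empty]; exact dvd_zero 9
  have h3 : h ^ 3 ≠ 1 := fun e => hfree x₀ hx₀ (by rw [e, one_smul])
  have ho : orderOf h = 9 := by
    have h1 : orderOf h ∣ 3 ^ 2 := orderOf_dvd_of_pow_eq_one h9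
    obtain ⟨k, hk, hk'⟩ := (Nat.dvd_prime_pow Nat.prime_three).1 h1
    interval_cases k
    · exact absurd (by rw [pow_zero] at hk'; rw [orderOf_eq_one_iff.1 hk', one_pow]) h3
    · exact absurd (orderOf_dvd_iff_pow_eq_one.1 (by rw [hk', pow_one])) h3
    · exact hk'
  have hz : ∀ (k : ℤ), ∀ x ∈ S, h ^ k • x ∈ S := by
    have hn : ∀ (k : ℕ), ∀ x ∈ S, h ^ k • x ∈ S := by
      intro k
      induction k with
      | zero => intro x hx; rwa [pow_zero, one_smul]
      | succ k ih => intro x hx; rw [pow_succ, mul_smul]; exact ih _ (hS x hx)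
    intro k x hx
    have h1 : h ^ k ∈ Subgroup.zpowers h := ⟨k, rfl⟩
    have h2 : IsOfFinOrder h := by rw [← orderOf_pos_iff, ho]; norm_num
    rw [h2.mem_zpowers_iff_mem_range_orderOf] at h1
    obtain ⟨n, -, hn'⟩ := Finset.mem_image.1 h1
    rw [← hn']
    exact hn n x hx
  let act : MulAction (Subgroup.zpowers h) S :=
    { smul := fun d x => ⟨(d : G) • (x : X), by
        obtain ⟨k, hk⟩ := d.2
        rw [← hk]
        exact hz k x x.2⟩
      one_smul := fun x => Subtype.ext (one_smul G (x : X))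
      mul_smul := fun a b x => Subtype.ext (mul_smul (a : G) (b : G) (x : X)) }
  have hfC : Finite (Subgroup.zpowers h) := by
    apply Nat.finite_of_card_ne_zero
    rw [Nat.card_zpowers, ho]
    norm_num
  have key := card_dvd_free (D := Subgroup.zpowers h) (α := S) ?_
  · rw [Nat.card_zpowers, ho, Nat.card_coe_set_eq] at key
    exact key
  · rintro ⟨d, k, rfl⟩ x hx
    have hx' : h ^ k • (x : X) = x := congrArg Subtype.val hx
    apply Subtype.ext
    change h ^ k = 1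
    by_contra hne
    -- the integers `n` with `h ^ n x = x`
    have hmulz : ∀ a : ℤ, h ^ (k * a) • (x : X) = x := by
      intro a
      rw [zpow_mul]
      have : h ^ k ∈ MulAction.stabilizer G (x : X) := hx'
      exact Subgroup.zpow_mem _ this a
    have hg : (Int.gcd k 9 : ℕ) ∣ 3 := by
      have h1 : Int.gcd k 9 ∣ 3 ^ 2 := by
        have := Int.gcd_dvd_natAbs_right k 9
        simpa using this
      obtain ⟨j, hj, hj'⟩ := (Nat.dvd_prime_pow Nat.prime_three).1 h1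
      interval_cases j
      · rw [hj']; norm_num
      · rw [hj']; norm_num
      · exfalso
        apply hne
        have h2 : (9 : ℤ) ∣ k := by
          have := Int.gcd_dvd_left (a := k) (b := 9)
          rw [hj'] at this
          simpa using this
        obtain ⟨c, rfl⟩ := h2
        rw [zpow_mul, show h ^ (9 : ℤ) = 1 by exact_mod_cast h9, one_zpow]
    obtain ⟨a, b, hab⟩ := Int.gcd_dvd_iff.1 hg
    apply hfree x x.2
    have h2 : h ^ 3 = h ^ (k * a) := by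
      have e : ((3 : ℕ) : ℤ) = k * a + 9 * b := hab
      rw [← zpow_natCast, e, zpow_add, zpow_mul h 9 b, show h ^ (9 : ℤ) = 1 by exact_mod_cast h9, one_zpow, mul_one]
    rw [h2]
    exact hmulz a

/-- the orbit count -/
theorem count_orbits {G X : Type*} [Group G] [Finite G] [MulAction G X] [Finite X] (hX : Nat.card X = 136)
    (h13 : ¬ 13 ∣ Nat.card G) (h17 : ¬ 17 ∣ Nat.card G) {y u g z : G}
    (hy : y ^ 5 = 1) (hyn : {x : X | y • x = x}.ncard = 1)
    (hu : u ^ 21 = 1) (hun : {x : X | u • x = x}.ncard = 0) (hu3n : {x : X | u ^ 3 • x = x}.ncard = 3)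
    (hg : g ^ 9 = 1) (hg3n : {x : X | g ^ 3 • x = x}.ncard = 1)
    (hz : z ^ 15 = 1) (hzn : {x : X | z • x = x}.ncard = 0) (hz5n : {x : X | z ^ 5 • x = x}.ncard = 10) :
    ∃ D : Set X, (∀ (h : G), ∀ x ∈ D, h • x ∈ D) ∧ D.ncard = 10 ∧ ∀ x ∈ D, z ^ 5 • x = x := by
  classical
  have hle' : ∀ (A : G) (S : Set X), {x | x ∈ S ∧ A • x = x}.ncard ≤ {x : X | A • x = x}.ncard := fun A S =>
    Set.ncard_le_ncard (fun x hx => hx.2) (Set.toFinite _)
  -- the fixed form of `y`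
  obtain ⟨x₀, hx₀⟩ : ∃ x : X, y • x = x := by
    have h1 : {x : X | y • x = x}.Nonempty := by
      rw [← Set.ncard_pos, hyn]
      norm_num
    exact h1
  set O : Set X := MulAction.orbit G x₀ with hO
  have hOinv : ∀ h : G, ∀ x ∈ O, h • x ∈ O := fun h x hx => MulAction.mem_orbit_of_mem_orbit h hx
  have hOcard : O.ncard ∣ Nat.card G := by
    rw [← Nat.card_coe_set_eq, Nat.card_congr (MulAction.orbitEquivQuotientStabilizer G x₀)]
    exact Subgroup.card_quotient_dvd_card _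
  have hle : O.ncard ≤ 136 := by
    rw [← hX, ← Set.ncard_univ]
    exact Set.ncard_le_ncard (Set.subset_univ O) (Set.toFinite _)
  -- `y`
  have e1 : O.ncard ≡ 1 [MOD 5] := by
    have h1 := ncard_mod (h := y) (S := O) (hOinv y) (r := 5) (by norm_num) fun x _ => by rw [hy, one_smul]
    have h2 : {x | x ∈ O ∧ y • x = x}.ncard = 1 := by
      apply le_antisymm
      · rw [← hyn]
        exact hle' y O
      · rw [Nat.one_le_iff_ne_zero, ← Nat.pos_iff_ne_zero, Set.ncard_pos]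
        exact ⟨x₀, MulAction.mem_orbit_self x₀, hx₀⟩
    rwa [h2] at h1
  -- `u`
  have e2 : O.ncard % 7 = 0 ∨ O.ncard % 7 = 3 := by
    have h1 := ncard_mod (h := u ^ 3) (S := O) (hOinv _) (r := 7) (by norm_num)
      fun x _ => by rw [← pow_mul, hu, one_smul]
    have h2 : {x | x ∈ O ∧ u ^ 3 • x = x}.ncard ≤ 3 := (hle' (u ^ 3) O).trans hu3n.le
    have h3 := ncard_mod (h := u) (S := {x | x ∈ O ∧ u ^ 3 • x = x}) (fun x hx => ⟨hOinv u x hx.1, by
        rw [← mul_smul, ← pow_succ, pow_succ', mul_smul, hx.2]⟩) (r := 3) (by norm_num) fun x hx => hx.2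
    have h4 : {x | x ∈ {x | x ∈ O ∧ u ^ 3 • x = x} ∧ u • x = x}.ncard = 0 := by
      rw [← Nat.le_zero, ← hun]
      exact hle' u {x | x ∈ O ∧ u ^ 3 • x = x}
    rw [h4] at h3
    unfold Nat.ModEq at h1 h3
    have h5 : {x | x ∈ O ∧ u ^ 3 • x = x}.ncard = 0 ∨ {x | x ∈ O ∧ u ^ 3 • x = x}.ncard = 3 := by omega
    rcases h5 with h5 | h5
    · rw [h5] at h1
      exact Or.inl h1
    · rw [h5] at h1
      exact Or.inr h1
  -- `g`
  have e3 : O.ncard % 9 = 0 ∨ O.ncard % 9 = 1 := by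
    have h1 := nine_dvd (h := g) (S := {x | x ∈ O ∧ g ^ 3 • x ≠ x}) (fun x hx => ⟨hOinv g x hx.1, fun h => hx.2 (by
      have h2 : g • (g ^ 3 • x) = g • x := by rw [← mul_smul, ← pow_succ', pow_succ, mul_smul, h]
      exact smul_left_cancel g h2)⟩) hg fun x hx => hx.2
    have h2 : {x | x ∈ O ∧ g ^ 3 • x = x}.ncard ≤ 1 := (hle' (g ^ 3) O).trans hg3n.le
    have h3 : O.ncard = {x | x ∈ O ∧ g ^ 3 • x = x}.ncard + {x | x ∈ O ∧ g ^ 3 • x ≠ x}.ncard := by
      rw [← Set.ncard_union_eq]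
      · congr 1
        ext x
        simp only [Set.mem_union, Set.mem_ofPred_eq]
        tauto
      · rw [Set.disjoint_left]
        exact fun x hx hx' => hx'.2 hx.2
    omega
  have hO126 : O.ncard = 126 := by
    have h1 : ¬ 13 ∣ O.ncard := fun h => h13 (h.trans hOcard)
    have h2 : ¬ 17 ∣ O.ncard := fun h => h17 (h.trans hOcard)
    unfold Nat.ModEq at e1
    omega
  -- `z`
  have e4 : {x | x ∈ O ∧ z ^ 5 • x = x}.ncard = 0 := by
    have h1 := ncard_mod (h := z ^ 5) (S := O) (hOinv _) (r := 3) (by norm_num)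
      fun x _ => by rw [← pow_mul, hz, one_smul]
    have h2 : {x | x ∈ O ∧ z ^ 5 • x = x}.ncard ≤ 10 := (hle' (z ^ 5) O).trans hz5n.le
    have h3 := ncard_mod (h := z) (S := {x | x ∈ O ∧ z ^ 5 • x = x}) (fun x hx => ⟨hOinv z x hx.1, by
        rw [← mul_smul, ← pow_succ, pow_succ', mul_smul, hx.2]⟩) (r := 5) (by norm_num) fun x hx => hx.2
    have h4 : {x | x ∈ {x | x ∈ O ∧ z ^ 5 • x = x} ∧ z • x = x}.ncard = 0 := by
      rw [← Nat.le_zero, ← hzn]
      exact hle' z {x | x ∈ O ∧ z ^ 5 • x = x}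
    rw [h4] at h3
    rw [hO126] at h1
    unfold Nat.ModEq at h1 h3
    omega
  have hDcard : (Oᶜ).ncard = 10 := by
    have := Set.ncard_add_ncard_compl O
    rw [hO126, hX] at this
    omega
  have hDz : {x : X | z ^ 5 • x = x} = Oᶜ := by
    apply Set.eq_of_subset_of_ncard_le
    · intro x hx hxO
      have h1 : {x | x ∈ O ∧ z ^ 5 • x = x} = ∅ := by rwa [Set.ncard_eq_zero] at e4
      have h2 : x ∈ {x | x ∈ O ∧ z ^ 5 • x = x} := ⟨hxO, hx⟩
      rw [h1] at h2
      exact h2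
    · rw [hDcard, hz5n]
    · exact Set.toFinite _
  refine ⟨Oᶜ, fun h x hx hhx => hx ?_, hDcard, fun x hx => by rw [← hDz] at hx; exact hx⟩
  have := hOinv h⁻¹ _ hhx
  rwa [inv_smul_smul] at this

end count

section irr

theorem od2_5 : Od 2 4 5 := ⟨by norm_num, by
  rw [orderOf_eq_iff (by norm_num)]
  refine ⟨by decide, fun m hm hm0 => ?_⟩
  interval_cases m <;> decide, by norm_num⟩

theorem od2_7 : Od 2 3 7 := ⟨by norm_num, by
  rw [orderOf_eq_iff (by norm_num)]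
  refine ⟨by decide, fun m hm hm0 => ?_⟩
  interval_cases m <;> decide, by norm_num⟩

theorem sp8_irr {y u : G8} (hy : y ^ 5 = 1) (hyf : ∀ v, (y : M8) *ᵥ v = v → v = 0) (hu : u ^ 21 = 1)
    (hu3 : u ^ 3 ≠ 1) (huf : ∀ v, (u : M8) *ᵥ v = v → v = 0) (W : Submodule (ZMod 2) V8)
    (hWy : ∀ v ∈ W, (y : M8) *ᵥ v ∈ W) (hWu : ∀ v ∈ W, (u : M8) *ᵥ v ∈ W) : W = ⊥ ∨ W = ⊤ := by
  have hc : Fintype.card (Fin 4 ⊕ Fin 4) = 8 := by simp
  have h5 : Od (Fintype.card (ZMod 2)) 4 5 := by rw [ZMod.card]; exact od2_5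
  have h7 : Od (Fintype.card (ZMod 2)) 3 7 := by rw [ZMod.card]; exact od2_7
  have hfy : fixS (spToGL 4 (ZMod 2) y) = ⊥ := by
    rw [eq_bot_iff]
    intro v hv
    exact hyf v (mem_fixS.1 hv)
  have h1 : 4 ∣ finrank (ZMod 2) W - finrank (ZMod 2) (W ⊓ fixS (spToGL 4 (ZMod 2) y) : Submodule (ZMod 2) V8) :=
    finrank_inv h5 (x := spToGL 4 (ZMod 2) y) (by rw [← map_pow, hy, map_one]) W hWy
  rw [hfy, inf_bot_eq, finrank_bot, Nat.sub_zero] at h1
  have hx : (spToGL 4 (ZMod 2) (u ^ 3)) ^ 7 = 1 := by rw [← map_pow, ← pow_mul, hu, map_one]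
  have hx1 : spToGL 4 (ZMod 2) (u ^ 3) ≠ 1 := fun e => hu3 (spToGL_injective (by rw [e, map_one]))
  have h2 : 3 ∣ Fintype.card (Fin 4 ⊕ Fin 4) - finrank (ZMod 2) (fixS (spToGL 4 (ZMod 2) (u ^ 3))) := finrank_fixS h7 hx
  have h3 : finrank (ZMod 2) (fixS (spToGL 4 (ZMod 2) (u ^ 3))) < Fintype.card (Fin 4 ⊕ Fin 4) := finrank_fixS_lt hx1
  have h4 : Even (finrank (ZMod 2) (fixS (spToGL 4 (ZMod 2) (u ^ 3)))) :=
    even_fixS (spToGL_mem _) (r := 7) (by decide) hx
  rw [hc] at h2 h3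
  have h6 : finrank (ZMod 2) (fixS (spToGL 4 (ZMod 2) (u ^ 3))) = 2 := by
    obtain ⟨k, hk⟩ := h4
    omega
  have hWx : ∀ v ∈ W, ((spToGL 4 (ZMod 2) (u ^ 3) : GL (Fin 4 ⊕ Fin 4) (ZMod 2)) : M8) *ᵥ v ∈ W := by
    intro v hv
    have e : ((spToGL 4 (ZMod 2) (u ^ 3) : GL (Fin 4 ⊕ Fin 4) (ZMod 2)) : M8) *ᵥ v =
        (u : M8) *ᵥ ((u : M8) *ᵥ ((u : M8) *ᵥ v)) := by
      rw [coe_spToGL, pow_succ, pow_succ, pow_one, Submonoid.coe_mul, Submonoid.coe_mul, Matrix.mulVec_mulVec,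
        Matrix.mulVec_mulVec, mul_assoc]
    rw [e]
    exact hWu _ (hWu _ (hWu _ hv))
  have h8 : 3 ∣ finrank (ZMod 2) W - finrank (ZMod 2) (W ⊓ fixS (spToGL 4 (ZMod 2) (u ^ 3)) : Submodule (ZMod 2) V8) :=
    finrank_inv h7 hx W hWx
  have h9 : finrank (ZMod 2) (W ⊓ fixS (spToGL 4 (ZMod 2) (u ^ 3)) : Submodule (ZMod 2) V8) ≤ 2 :=
    (Submodule.finrank_mono inf_le_right).trans h6.le
  have h10 : finrank (ZMod 2) (W ⊓ fixS (spToGL 4 (ZMod 2) (u ^ 3)) : Submodule (ZMod 2) V8) ≤ finrank (ZMod 2) W :=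
    Submodule.finrank_mono inf_le_left
  have h11 : finrank (ZMod 2) W ≤ 8 := by
    have := Submodule.finrank_le W
    rwa [Module.finrank_fintype_fun_eq_card, hc] at this
  have h12 : finrank (ZMod 2) W = 0 ∨ finrank (ZMod 2) W = 8 ∨
      finrank (ZMod 2) (W ⊓ fixS (spToGL 4 (ZMod 2) (u ^ 3)) : Submodule (ZMod 2) V8) = 1 := by
    obtain ⟨k, hk⟩ := h1
    have hk2 : k ≤ 2 := by omega
    interval_cases k
    · exact Or.inl (by omega)
    · exact Or.inr (Or.inr (by omega))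
    · exact Or.inr (Or.inl (by omega))
  rcases h12 with h | h | h
  · exact Or.inl (Submodule.finrank_eq_zero.1 h)
  · refine Or.inr (Submodule.eq_top_of_finrank_eq ?_)
    rw [h, Module.finrank_fintype_fun_eq_card, hc]
  · exfalso
    obtain ⟨d, hd0, hd⟩ := finrank_eq_one_iff'.1 h
    have hdW : (d : V8) ∈ W ⊓ fixS (spToGL 4 (ZMod 2) (u ^ 3)) := d.2
    have hud : (u : M8) *ᵥ (d : V8) ∈ W ⊓ fixS (spToGL 4 (ZMod 2) (u ^ 3)) := by
      refine ⟨hWu _ hdW.1, ?_⟩
      have h13 := mem_fixS.1 hdW.2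
      refine mem_fixS.2 ?_
      rw [coe_spToGL] at h13 ⊢
      rw [Matrix.mulVec_mulVec, ← Submonoid.coe_mul, ← pow_succ, pow_succ', Submonoid.coe_mul, ← Matrix.mulVec_mulVec,
        h13]
    obtain ⟨c, hc'⟩ := hd ⟨_, hud⟩
    have hc2 : c • (d : V8) = (u : M8) *ᵥ (d : V8) := congrArg Subtype.val hc'
    have hc01 : c = 0 ∨ c = 1 := (by decide : ∀ x : ZMod 2, x = 0 ∨ x = 1) c
    rcases hc01 with rfl | rfl
    · rw [zero_smul] at hc2
      apply hd0
      apply Subtype.ext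
      have := inv_mul_mulVec u (d : V8)
      rw [← hc2, Matrix.mulVec_zero] at this
      exact this.symm
    · rw [one_smul] at hc2
      exact hd0 (Subtype.ext (huf _ hc2.symm))

end irr

section main

theorem nfix_eq_ncard (A : G8) : nfix A = {x : XX | A • x = x}.ncard := Nat.card_coe_set_eq _

theorem ncard_le_nfix (A : G8) (S : Set XX) : {x | x ∈ S ∧ A • x = x}.ncard ≤ nfix A := by
  rw [nfix_eq_ncard]
  exact Set.ncard_le_ncard (fun x hx => hx.2) (Set.toFinite _)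

/-- **No subgroup of order prime to `17` meets the four classes.** -/
theorem sp8_contra {H : Subgroup G8} (h13 : ¬ 13 ∣ Nat.card H) (h17 : ¬ 17 ∣ Nat.card H) {y u g z : G8}
    (hyH : y ∈ H) (huH : u ∈ H) (hgH : g ∈ H) (hzH : z ∈ H)
    (hy : y ^ 5 = 1) (hyf : ∀ v, (y : M8) *ᵥ v = v → v = 0) (hyn : nfix y = 1)
    (hu : u ^ 21 = 1) (hu3 : u ^ 3 ≠ 1) (huf : ∀ v, (u : M8) *ᵥ v = v → v = 0) (hun : nfix u = 0)
    (hu3n : nfix (u ^ 3) = 3) (hg : g ^ 9 = 1) (hg3n : nfix (g ^ 3) = 1)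
    (hz : z ^ 15 = 1) (hz5 : z ^ 5 ≠ 1) (hzn : nfix z = 0) (hz5n : nfix (z ^ 5) = 10) : False := by
  have hfinG : Finite G8 := Finite.of_injective (fun A => (A : M8)) Subtype.val_injective
  have hp : ∀ (a : H) (k : ℕ), (a : G8) ^ k = 1 → a ^ k = 1 := fun a k h => Subtype.ext (by
    rw [Subgroup.coe_pow, h, Subgroup.coe_one])
  have hn : ∀ (a : H) (k : ℕ), {x : XX | a ^ k • x = x}.ncard = nfix ((a : G8) ^ k) := fun a k => by
    rw [nfix_eq_ncard]
    congr 1
  have hn1 : ∀ (a : H), {x : XX | a • x = x}.ncard = nfix (a : G8) := fun a => by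
    have := hn a 1
    rwa [pow_one, pow_one] at this
  obtain ⟨D, hDinv', hDcard, hDz'⟩ := count_orbits (G := H) (X := XX) card_XX h13 h17 (y := ⟨y, hyH⟩) (u := ⟨u, huH⟩)
    (g := ⟨g, hgH⟩) (z := ⟨z, hzH⟩) (hp _ _ hy) ((hn1 _).trans hyn) (hp _ _ hu) ((hn1 _).trans hun)
    ((hn _ _).trans hu3n) (hp _ _ hg) ((hn _ _).trans hg3n) (hp _ _ hz) ((hn1 _).trans hzn) ((hn _ _).trans hz5n)
  have hDinv : ∀ h ∈ H, ∀ x ∈ D, h • x ∈ D := fun h hh x hx => hDinv' ⟨h, hh⟩ x hx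
  have hDz : ∀ x ∈ D, z ^ 5 • x = x := fun x hx => hDz' x hx
  -- the kernel on the complement
  obtain ⟨x₁, hx₁, x₂, hx₂, hne⟩ : ∃ x₁ ∈ D, ∃ x₂ ∈ D, x₁ ≠ x₂ := by
    obtain ⟨x₁, x₂, h1, h2, h3⟩ := (Set.one_lt_ncard_iff (Set.toFinite D)).1 (by rw [hDcard]; norm_num)
    exact ⟨x₁, h1, x₂, h2, h3⟩
  obtain ⟨a, ha0, ha⟩ := exists_diff hne
  let W : Submodule (ZMod 2) V8 :=
    { carrier := {v | ∀ h ∈ H, (∀ x ∈ D, h • x = x) → (h : M8) *ᵥ v = v}
      zero_mem' := fun h _ _ => Matrix.mulVec_zero _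
      add_mem' := fun {v w} hv hw h hh hx => by rw [Matrix.mulVec_add, hv h hh hx, hw h hh hx]
      smul_mem' := fun c v hv h hh hx => by rw [Matrix.mulVec_smul, hv h hh hx] }
  have hWinv : ∀ k ∈ H, ∀ v ∈ W, (k : M8) *ᵥ v ∈ W := by
    intro k hk v hv h hh hx
    have h1 := hv (k⁻¹ * h * k) (H.mul_mem (H.mul_mem (H.inv_mem hk) hh) hk) fun x hxD => by
      rw [mul_smul, mul_smul, hx _ (hDinv k hk x hxD), inv_smul_smul]
    rw [Submonoid.coe_mul, Submonoid.coe_mul, ← Matrix.mulVec_mulVec, ← Matrix.mulVec_mulVec] at h1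
    have h2 := congrArg (fun w => (k : M8) *ᵥ w) h1
    simp only [mul_inv_mulVec] at h2
    exact h2
  rcases sp8_irr hy hyf hu hu3 huf W (hWinv y hyH) (hWinv u huH) with h | h
  · apply ha0
    have h1 : a ∈ W := fun k hk hx => ha k (hx x₁ hx₁) (hx x₂ hx₂)
    rw [h] at h1
    exact h1
  · apply hz5
    apply Subtype.ext
    apply Matrix.toLin'.injective
    apply LinearMap.ext
    intro v
    have h1 : v ∈ W := by rw [h]; exact Submodule.mem_top
    have h2 := h1 (z ^ 5) (H.pow_mem hzH 5) hDz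
    rw [Matrix.toLin'_apply, h2]
    simp

end main

end Cfsg.Agent.H901.Der
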