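import Cfsg.Agent.ClassicalGeometry.SympBasic

/-!
# The `136` quadratic forms of plus type on the symplectic space `F₂⁸` (S3502)

* `XX` : the forms, with the action of `Sp₈(2)`; `card_XX`
* `nfix A` : the number of forms fixed by `A`; `nfix_conj`, `nfix_eq` (as a decidable count)
* `exists_mem_of_two` : an element fixing two forms fixes their difference
-/

set_option autoImplicit false
set_option linter.unusedSectionVars false

namespace Cfsg.Agent.H901.Der

open Cfsg Cfsg.Agent.ClassicalGeometry.SympBasic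
open scoped Matrix

abbrev V8 := Fin 4 ⊕ Fin 4 → ZMod 2
abbrev M8 := Matrix (Fin 4 ⊕ Fin 4) (Fin 4 ⊕ Fin 4) (ZMod 2)
abbrev G8 := Matrix.symplecticGroup (Fin 4) (ZMod 2)

/-- the symplectic form -/
def sf (u v : V8) : ZMod 2 := ∑ i : Fin 4, (u (Sum.inl i) * v (Sum.inr i) + u (Sum.inr i) * v (Sum.inl i))

/-- the standard form of plus type -/
def q0 (v : V8) : ZMod 2 := ∑ i : Fin 4, v (Sum.inl i) * v (Sum.inr i)

theorem sf_eq (u v : V8) : sympForm 4 (ZMod 2) u v = sf u v := by
  rw [sympForm_eq_sum, sf]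
  refine Finset.sum_congr rfl fun i _ => ?_
  rw [CharTwo.sub_eq_add, add_comm]

theorem sf_add_left (u u' v : V8) : sf (u + u') v = sf u v + sf u' v := by
  rw [← sf_eq, ← sf_eq, ← sf_eq, sympForm_add_left]

theorem sf_add_right (u v v' : V8) : sf u (v + v') = sf u v + sf u v' := by
  rw [← sf_eq, ← sf_eq, ← sf_eq, sympForm_add_right]

theorem sf_comm (u v : V8) : sf u v = sf v u := by
  rw [← sf_eq, ← sf_eq, sympForm_swap, CharTwo.neg_eq]

theorem sf_self (v : V8) : sf v v = 0 := by rw [← sf_eq, sympForm_self]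

theorem sf_mulVec (A : G8) (u v : V8) : sf ((A : M8) *ᵥ u) ((A : M8) *ᵥ v) = sf u v := by
  rw [← sf_eq, ← sf_eq, sympForm_mulVec A.2]

theorem eq_zero_of_sf {a : V8} (h : ∀ v, sf a v = 0) : a = 0 :=
  eq_zero_of_forall_sympForm_right (m := 4) fun w => by rw [sf_eq, h]

theorem q0_add (u v : V8) : q0 (u + v) = q0 u + q0 v + sf u v := by
  simp only [q0, sf, ← Finset.sum_add_distrib]
  refine Finset.sum_congr rfl fun i _ => ?_
  simp only [Pi.add_apply]
  ring

/-- the forms -/
def qa (a : V8) (v : V8) : ZMod 2 := q0 v + sf a v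

set_option maxRecDepth 100000 in
theorem card_q0 : (Finset.univ.filter fun a : V8 => q0 a = 0).card = 136 := by decide +kernel

set_option maxRecDepth 100000 in
theorem card_q1 : (Finset.univ.filter fun a : V8 => q0 a = 1).card = 120 := by decide +kernel

/-- polarising to `sf` -/
def Pol (q : V8 → ZMod 2) : Prop := ∀ u v, q (u + v) = q u + q v + sf u v

theorem pol_qa (a : V8) : Pol (qa a) := by
  intro u v
  rw [qa, qa, qa, q0_add, sf_add_right]
  ring

/-- an additive function vanishing on the basis -/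
theorem add_zero_of_basis {g : V8 → ZMod 2} (hg : ∀ u v, g (u + v) = g u + g v)
    (h : ∀ i, g (Pi.single i 1) = 0) (v : V8) : g v = 0 := by
  let G : V8 →+ ZMod 2 := AddMonoidHom.mk' g hg
  have hG : G.toZModLinearMap 2 = 0 := by
    apply LinearMap.pi_ext'
    intro i
    apply LinearMap.ext_ring
    exact h i
  exact LinearMap.congr_fun hG v

theorem eq_qa {q : V8 → ZMod 2} (h : Pol q) : ∃ a, q = qa a := by
  refine ⟨Sum.elim (fun i => q (Pi.single (Sum.inr i) 1)) (fun i => q (Pi.single (Sum.inl i) 1)), ?_⟩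
  funext v
  have key : ∀ v, q v + qa (Sum.elim (fun i => q (Pi.single (Sum.inr i) 1))
      (fun i => q (Pi.single (Sum.inl i) 1))) v = 0 := by
    apply add_zero_of_basis
    · intro u v
      rw [h, pol_qa]
      have : sf u v + sf u v = 0 := CharTwo.add_self_eq_zero _
      linear_combination this
    · intro i
      have e : ∀ j, q0 (Pi.single j 1 : V8) = 0 := by decide
      rw [qa, e, zero_add]
      rcases i with i | i
      · have : sf (Sum.elim (fun i => q (Pi.single (Sum.inr i) 1)) (fun i => q (Pi.single (Sum.inl i) 1)))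
            (Pi.single (Sum.inl i) 1) = q (Pi.single (Sum.inl i) 1) := by
          rw [sf, Finset.sum_eq_single i]
          · simp
          · intro j _ hj
            simp [hj]
          · simp
        rw [this]
        exact CharTwo.add_self_eq_zero _
      · have : sf (Sum.elim (fun i => q (Pi.single (Sum.inr i) 1)) (fun i => q (Pi.single (Sum.inl i) 1)))
            (Pi.single (Sum.inr i) 1) = q (Pi.single (Sum.inr i) 1) := by
          rw [sf, Finset.sum_eq_single i]
          · simp
          · intro j _ hj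
            simp [hj]
          · simp
        rw [this]
        exact CharTwo.add_self_eq_zero _
  have := key v
  rwa [CharTwo.add_eq_zero] at this

theorem qa_injective : Function.Injective qa := by
  intro a b h
  have h1 : a + b = 0 := by
    apply eq_zero_of_sf
    intro v
    have := congrFun h v
    rw [qa, qa] at this
    rw [sf_add_left, add_left_cancel this]
    exact CharTwo.add_self_eq_zero _
  funext i
  have := congrFun h1 i
  rwa [Pi.add_apply, Pi.zero_apply, CharTwo.add_eq_zero] at this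

theorem qa_eq (a v : V8) : qa a v = q0 (v + a) + q0 a := by
  rw [qa, q0_add, sf_comm v a]
  have : q0 a + q0 a = 0 := CharTwo.add_self_eq_zero _
  linear_combination -this

theorem zeros_qa (a : V8) : (Finset.univ.filter fun v => qa a v = 0).card = 136 ↔ q0 a = 0 := by
  have h1 : (Finset.univ.filter fun v => qa a v = 0).card = (Finset.univ.filter fun v => q0 v = q0 a).card := by
    apply Finset.card_bij (fun v _ => v + a)
    · intro v hv
      rw [Finset.mem_filter] at hv ⊢
      refine ⟨Finset.mem_univ _, ?_⟩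
      rw [← CharTwo.add_eq_zero, ← qa_eq]
      exact hv.2
    · intro u _ v _ h
      exact add_right_cancel h
    · intro v hv
      rw [Finset.mem_filter] at hv
      refine ⟨v + a, ?_, ?_⟩
      · rw [Finset.mem_filter]
        refine ⟨Finset.mem_univ _, ?_⟩
        rw [qa_eq, CharTwo.add_eq_zero, add_assoc, CharTwo.add_self_eq_zero, add_zero]
        exact hv.2
      · rw [add_assoc, CharTwo.add_self_eq_zero, add_zero]
  rw [h1]
  have h2 : q0 a = 0 ∨ q0 a = 1 := (by decide : ∀ x : ZMod 2, x = 0 ∨ x = 1) _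
  rcases h2 with h | h
  · rw [h, card_q0]
    simp
  · rw [h, card_q1]
    constructor
    · intro h
      norm_num at h
    · intro h
      exact absurd h (by decide)

/-- the forms of plus type -/
structure XX where
  /-- the form -/
  q : V8 → ZMod 2
  pol : Pol q
  zeros : (Finset.univ.filter fun v => q v = 0).card = 136

theorem XX.ext' {x y : XX} (h : ∀ v, x.q v = y.q v) : x = y := by
  obtain ⟨q, h1, h2⟩ := x
  obtain ⟨r, h3, h4⟩ := y
  obtain rfl : q = r := funext h
  rfl

instance : Finite XX := Finite.of_injective XX.q fun _ _ h => XX.ext' fun v => congrFun h v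

/-- the forms of plus type correspond to the singular vectors of `q0` -/
noncomputable def eXX : {a : V8 // q0 a = 0} ≃ XX :=
  Equiv.ofBijective (fun a => ⟨qa a, pol_qa a, (zeros_qa a).2 a.2⟩) ⟨fun a b h => Subtype.ext (qa_injective
    (congrArg XX.q h)), fun x => by
      obtain ⟨a, ha⟩ := eq_qa x.pol
      refine ⟨⟨a, (zeros_qa a).1 ?_⟩, XX.ext' fun v => (congrFun ha v).symm⟩
      rw [← ha]
      exact x.zeros⟩

theorem eXX_q (a : {a : V8 // q0 a = 0}) : (eXX a).q = qa a := rfl

theorem card_XX : Nat.card XX = 136 := by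
  rw [← Nat.card_congr eXX, Nat.card_eq_fintype_card, Fintype.card_subtype]
  exact card_q0

theorem mul_inv_mulVec (A : G8) (v : V8) : (A : M8) *ᵥ (((A⁻¹ : G8) : M8) *ᵥ v) = v := by
  rw [Matrix.mulVec_mulVec, ← Submonoid.coe_mul, mul_inv_cancel, OneMemClass.coe_one, Matrix.one_mulVec]

theorem inv_mul_mulVec (A : G8) (v : V8) : ((A⁻¹ : G8) : M8) *ᵥ ((A : M8) *ᵥ v) = v := by
  rw [Matrix.mulVec_mulVec, ← Submonoid.coe_mul, inv_mul_cancel, OneMemClass.coe_one, Matrix.one_mulVec]

/-- the action on the forms -/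
def actXX (A : G8) (x : XX) : XX where
  q v := x.q (((A⁻¹ : G8) : M8) *ᵥ v)
  pol := by
    intro u v
    change x.q (((A⁻¹ : G8) : M8) *ᵥ (u + v)) = x.q (((A⁻¹ : G8) : M8) *ᵥ u) + x.q (((A⁻¹ : G8) : M8) *ᵥ v) + sf u v
    rw [Matrix.mulVec_add, x.pol, sf_mulVec]
  zeros := by
    rw [← x.zeros]
    apply Finset.card_bij (fun v _ => ((A⁻¹ : G8) : M8) *ᵥ v)
    · intro v hv
      rw [Finset.mem_filter] at hv ⊢
      exact ⟨Finset.mem_univ _, hv.2⟩
    · intro u _ v _ h
      rw [← mul_inv_mulVec A u, h, mul_inv_mulVec]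
    · intro v hv
      rw [Finset.mem_filter] at hv
      refine ⟨(A : M8) *ᵥ v, ?_, inv_mul_mulVec A v⟩
      rw [Finset.mem_filter, inv_mul_mulVec]
      exact ⟨Finset.mem_univ _, hv.2⟩

instance : MulAction G8 XX where
  smul := actXX
  one_smul x := by
    apply XX.ext'
    intro v
    change x.q (((1⁻¹ : G8) : M8) *ᵥ v) = x.q v
    rw [inv_one, OneMemClass.coe_one, Matrix.one_mulVec]
  mul_smul A B x := by
    apply XX.ext'
    intro v
    change x.q ((((A * B)⁻¹ : G8) : M8) *ᵥ v) = x.q (((B⁻¹ : G8) : M8) *ᵥ (((A⁻¹ : G8) : M8) *ᵥ v))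
    rw [mul_inv_rev, Submonoid.coe_mul, Matrix.mulVec_mulVec]

theorem smul_XX (A : G8) (x : XX) (v : V8) : (A • x).q v = x.q (((A⁻¹ : G8) : M8) *ᵥ v) := rfl

theorem smul_eq_iff (A : G8) (x : XX) : A • x = x ↔ ∀ v, x.q ((A : M8) *ᵥ v) = x.q v := by
  constructor
  · intro h v
    have := congrArg (fun x : XX => x.q ((A : M8) *ᵥ v)) h
    simp only [smul_XX, inv_mul_mulVec] at this
    exact this.symm
  · intro h
    apply XX.ext'
    intro v
    rw [smul_XX, ← h, mul_inv_mulVec]

/-- the number of fixed forms -/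
noncomputable def nfix (A : G8) : ℕ := Nat.card {x : XX // A • x = x}

theorem nfix_conj (A B : G8) : nfix (B * A * B⁻¹) = nfix A := by
  refine Nat.card_congr ⟨fun q => ⟨B⁻¹ • q.1, ?_⟩, fun q => ⟨B • q.1, ?_⟩, fun q => Subtype.ext (smul_inv_smul B q.1),
    fun q => Subtype.ext (inv_smul_smul B q.1)⟩
  · have h := q.2
    rw [mul_smul, mul_smul] at h
    exact eq_inv_smul_iff.2 h
  · have h := q.2
    rw [mul_smul, mul_smul, inv_smul_smul, h]

/-- the number of fixed forms as a finite count -/
theorem nfix_eq (A : G8) : nfix A = (Finset.univ.filter fun a : V8 => q0 a = 0 ∧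
    ∀ i, qa a ((A : M8) *ᵥ Pi.single i 1) = qa a (Pi.single i 1)).card := by
  have h1 : nfix A = Nat.card {a : {a : V8 // q0 a = 0} // A • eXX a = eXX a} :=
    Nat.card_congr (Equiv.subtypeEquiv eXX.symm fun q => by rw [Equiv.apply_symm_apply])
  have h2 : ∀ a : {a : V8 // q0 a = 0}, A • eXX a = eXX a ↔
      ∀ i, qa a ((A : M8) *ᵥ Pi.single i 1) = qa a (Pi.single i 1) := by
    intro a
    rw [smul_eq_iff]
    constructor
    · intro h i
      exact h _
    · intro h v
      have key : ∀ v, qa a ((A : M8) *ᵥ v) + qa a v = 0 := by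
        apply add_zero_of_basis
        · intro u v
          rw [Matrix.mulVec_add, pol_qa, pol_qa, sf_mulVec]
          have : sf u v + sf u v = 0 := CharTwo.add_self_eq_zero _
          linear_combination this
        · intro i
          rw [h i]
          exact CharTwo.add_self_eq_zero _
      have := key v
      rwa [CharTwo.add_eq_zero] at this
  rw [h1, Nat.card_congr (Equiv.subtypeEquivRight h2), Nat.card_congr (Equiv.subtypeSubtypeEquivSubtypeInter
    (fun a : V8 => q0 a = 0) (fun a => ∀ i, qa a ((A : M8) *ᵥ Pi.single i 1) = qa a (Pi.single i 1))),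
    Nat.card_eq_fintype_card, Fintype.card_subtype]

/-- the difference of two forms -/
theorem exists_diff {q q' : XX} (h : q ≠ q') : ∃ a : V8, a ≠ 0 ∧ ∀ A : G8, A • q = q → A • q' = q' → (A : M8) *ᵥ a = a := by
  obtain ⟨b, hb⟩ := eq_qa q.pol
  obtain ⟨c, hc⟩ := eq_qa q'.pol
  refine ⟨b + c, fun h0 => h ?_, fun A h1 h2 => ?_⟩
  · have : b = c := by
      funext i
      have := congrFun h0 i
      rwa [Pi.add_apply, Pi.zero_apply, CharTwo.add_eq_zero] at this
    apply XX.ext'
    intro v
    rw [hb, hc, this]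
  · rw [smul_eq_iff] at h1 h2
    have h3 : ∀ v, sf (b + c) ((A : M8) *ᵥ v) = sf (b + c) v := by
      intro v
      have h4 := h1 v
      have h5 := h2 v
      rw [hb, qa, qa] at h4
      rw [hc, qa, qa] at h5
      rw [sf_add_left, sf_add_left]
      have e : (q0 ((A : M8) *ᵥ v) + sf b ((A : M8) *ᵥ v)) + (q0 ((A : M8) *ᵥ v) + sf c ((A : M8) *ᵥ v)) =
          (q0 v + sf b v) + (q0 v + sf c v) := by rw [h4, h5]
      have e1 : q0 ((A : M8) *ᵥ v) + q0 ((A : M8) *ᵥ v) = 0 := CharTwo.add_self_eq_zero _
      have e2 : q0 v + q0 v = 0 := CharTwo.add_self_eq_zero _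
      linear_combination e - e1 + e2
    have h4 : (A : M8) *ᵥ (b + c) + (b + c) = 0 := by
      apply eq_zero_of_sf
      intro v
      have h5 : sf ((A : M8) *ᵥ (b + c)) v = sf (b + c) v := by
        conv_lhs => rw [← mul_inv_mulVec A v]
        rw [sf_mulVec, ← h3, mul_inv_mulVec]
      rw [sf_add_left, h5]
      exact CharTwo.add_self_eq_zero _
    funext i
    have := congrFun h4 i
    rwa [Pi.add_apply, Pi.zero_apply, CharTwo.add_eq_zero] at this

end Cfsg.Agent.H901.Der
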