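import Cfsg.Agent.H901.Der.SpTor

/-!
# `NTC (PSp_2m(q))` (helper901, for S3502)

* `not_scc_tor` : `¬ SCC (PSp m F) v` for `v ≥ 7` dividing the order of a rigid element
* `not_scc_block` : the primes dividing `|Sp_2k(q)|`, `k < m`
* `ntc` : `NTC (PSp m F)`, `m ≥ 3`, `(m, q) ≠ (3, 2), (3, 3), (4, 2)`
-/

set_option autoImplicit false

namespace Cfsg.Agent.H901.Der

open Cfsg Subgroup Cfsg.Agent.H439.Der Cfsg.Agent.H262.El
open scoped MatrixGroups Matrix

variable {F : Type} [Field F] {m : ℕ}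

/-- orders in `PSp` -/
theorem dvd_two_mul_orderOf_mk [Finite F] (A : Matrix.symplecticGroup (Fin m) F) :
    orderOf A ∣ 2 * orderOf (QuotientGroup.mk A : PSp m F) := by
  apply orderOf_dvd_of_pow_eq_one
  rw [mul_comm, pow_mul]
  apply H376.SpEmb.center_pow
  rw [← QuotientGroup.eq_one_iff]
  show (QuotientGroup.mk A : PSp m F) ^ _ = 1
  exact pow_orderOf_eq_one _

theorem orderOf_mk_even [Finite F] (h2 : (2 : F) = 0) (A : Matrix.symplecticGroup (Fin m) F) :
    orderOf (QuotientGroup.mk A : PSp m F) = orderOf A := by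
  apply Nat.dvd_antisymm (orderOf_map_dvd (QuotientGroup.mk' _) A)
  apply orderOf_dvd_of_pow_eq_one
  have h1 : A ^ orderOf (QuotientGroup.mk A : PSp m F) ∈ center (Matrix.symplecticGroup (Fin m) F) := by
    rw [← QuotientGroup.eq_one_iff]
    show (QuotientGroup.mk A : PSp m F) ^ _ = 1
    exact pow_orderOf_eq_one _
  refine Subtype.ext (?_ : ((A ^ orderOf (QuotientGroup.mk A : PSp m F) : Matrix.symplecticGroup (Fin m) F) :
    Matrix (Fin m ⊕ Fin m) (Fin m ⊕ Fin m) F) = 1)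
  rcases Cfsg.Agent.ClassicalGeometry.SympInvolutions.center_eq h1 with h | h
  · exact h
  · rw [h]
    have h3 : (1 : F) + 1 = 0 := by rw [one_add_one_eq_two]; exact h2
    have h4 : (-1 : F) = 1 := neg_eq_of_add_eq_zero_left h3
    ext i j
    rw [Matrix.neg_apply, Matrix.one_apply]
    split_ifs
    · exact h4
    · exact neg_zero

theorem pow_even {n : ℕ} (hn : 5 ≤ n) : 14 * n < 3 * (2 ^ n - 1) := by
  induction n, hn using Nat.le_induction with
  | base => norm_num
  | succ n hn ih => rw [pow_succ]; omega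

theorem pow_odd {n : ℕ} (hn : 4 ≤ n) : 28 * n < 3 * (3 ^ n - 1) := by
  induction n, hn using Nat.le_induction with
  | base => norm_num
  | succ n hn ih => rw [pow_succ]; omega

theorem pow_five {n : ℕ} (hn : 3 ≤ n) : 28 * n < 3 * (5 ^ n - 1) := by
  induction n, hn using Nat.le_induction with
  | base => norm_num
  | succ n hn ih => rw [pow_succ]; omega

/-- **rigid elements of order at least `q ^ m - 1`** -/
theorem not_scc_tor [Fintype F] (hm : 3 ≤ m) (h32 : ¬ (m = 3 ∧ Fintype.card F = 2))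
    (h42 : ¬ (m = 4 ∧ Fintype.card F = 2)) (h33 : ¬ (m = 3 ∧ Fintype.card F = 3))
    {A : Matrix.symplecticGroup (Fin m) F} (hR : Rig A) (hN : Fintype.card F ^ m - 1 ≤ orderOf A) {v : ℕ}
    (hv : v.Prime) (hv7 : 7 ≤ v) (hvN : v ∣ orderOf A) : ¬ SCC (PSp m F) v := by
  intro h
  obtain ⟨c, hc⟩ : ∃ c, c = orderOf (QuotientGroup.mk A : PSp m F) := ⟨_, rfl⟩
  have h2c := dvd_two_mul_orderOf_mk A
  rw [← hc] at h2c
  have hvc : v ∣ c := by
    rcases hv.dvd_mul.1 (hvN.trans h2c) with h1 | h1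
    · have := Nat.le_of_dvd (by norm_num) h1
      omega
    · exact h1
  have hb := scc_bound hm hR hv hc.symm hvc h
  obtain ⟨p, hp⟩ := CharP.exists F
  have hpp : p.Prime := CharP.char_is_prime F p
  have := Fact.mk hpp
  obtain ⟨f, -, hf⟩ := FiniteField.card F p
  rw [Lib.FieldAutCard.card_ringAut f.pos hf] at hb
  have hf1 : 1 ≤ (f : ℕ) := f.pos
  have hc0 : 0 < c := by
    have hfin : Finite (PSp m F) := Quotient.finite _
    rw [hc]; exact orderOf_pos _
  have h7 : c / v ≤ c / 7 := Nat.div_le_div_left hv7 (by norm_num)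
  obtain ⟨n, hn⟩ : ∃ n : ℕ, n = (f : ℕ) * m := ⟨_, rfl⟩
  have hn3 : 3 ≤ n := by
    rw [hn]; exact hm.trans (Nat.le_mul_of_pos_left _ hf1)
  have hnn : (f : ℕ) * (4 * m) = 4 * n := by rw [hn]; ring
  rw [hnn] at hb
  have hqm : Fintype.card F ^ m = p ^ n := by rw [hf, ← pow_mul, hn]
  rcases hpp.eq_two_or_odd with h2 | hodd
  · subst h2
    have h20 : (2 : F) = 0 := by exact_mod_cast CharP.cast_eq_zero F 2
    rw [orderOf_mk_even h20] at hc
    rw [hqm, ← hc] at hN
    have hn5 : 5 ≤ n := by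
      by_contra hlt
      rcases Nat.lt_or_ge (f : ℕ) 2 with h1 | h1
      · have hf1' : (f : ℕ) = 1 := by omega
        rw [hf1', one_mul] at hn
        rw [hf1', pow_one] at hf
        rcases (show m = 3 ∨ m = 4 by omega) with h3 | h3
        · exact h32 ⟨h3, hf⟩
        · exact h42 ⟨h3, hf⟩
      · have := Nat.mul_le_mul h1 hm
        omega
    have := pow_even hn5
    have h1 : 1 ≤ 2 ^ n := Nat.one_le_two_pow
    omega
  · have hp3 : 3 ≤ p := by have := hpp.two_le; omega
    have hle : p ^ n - 1 ≤ 2 * c := by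
      rw [← hqm]
      exact hN.trans (Nat.le_of_dvd (by omega) h2c)
    rcases Nat.lt_or_ge p 5 with h5 | h5
    · have hp3' : p = 3 := by
        rcases (show p = 3 ∨ p = 4 by omega) with h | h
        · exact h
        · subst h; exact absurd hpp (by norm_num)
      subst hp3'
      have hn4 : 4 ≤ n := by
        by_contra hlt
        have hf1' : (f : ℕ) = 1 := by
          by_contra hne
          have := Nat.mul_le_mul (show 2 ≤ (f : ℕ) by omega) hm
          omega
        rw [hf1', one_mul] at hn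
        rw [hf1', pow_one] at hf
        exact h33 ⟨by omega, hf⟩
      have := pow_odd hn4
      omega
    · have h6 : 5 ^ n ≤ p ^ n := Nat.pow_le_pow_left h5 n
      have := pow_five hn3
      omega

theorem not_scc_of_orders' {T : Type*} [Group T] {v s t : ℕ} {x a b : T} (hv : v.Prime) (hs : s.Prime) (ht : t.Prime)
    (hvs : v ≠ s) (hvt : v ≠ t) (hst : s ≠ t) (hx : orderOf x = v) (ha : orderOf a = s) (hb : orderOf b = t)
    (hxa : Commute x a) (hxb : Commute x b) : ¬ SCC T v := by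
  have h1 : orderOf (x * a) = v * s := by
    rw [hxa.orderOf_mul_eq_mul_orderOf_of_coprime, hx, ha]
    rw [hx, ha]; exact (Nat.coprime_primes hv hs).2 hvs
  have h2 : orderOf (x * b) = v * t := by
    rw [hxb.orderOf_mul_eq_mul_orderOf_of_coprime, hx, hb]
    rw [hx, hb]; exact (Nat.coprime_primes hv ht).2 hvt
  have hv0 := hv.pos
  refine not_SCC_of_orders (x := x) (y := x * a) (z := x * b) (by rw [hx]) (by rw [h1]; exact dvd_mul_right _ _)
    (by rw [h2]; exact dvd_mul_right _ _) ?_ ?_ ?_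
  · rw [hx, h1]
    intro h
    have h3 : v * 1 = v * s := by omega
    exact hs.one_lt.ne (Nat.eq_of_mul_eq_mul_left hv0 h3)
  · rw [hx, h2]
    intro h
    have h3 : v * 1 = v * t := by omega
    exact ht.one_lt.ne (Nat.eq_of_mul_eq_mul_left hv0 h3)
  · rw [h1, h2]
    intro h
    exact hst (Nat.eq_of_mul_eq_mul_left hv0 h)

/-- **blocks** -/
theorem not_scc_block [Fintype F] {k l v s t : ℕ} (hk : 1 ≤ k) (hl : 1 ≤ l) (hv : v.Prime) (hs : s.Prime)
    (ht : t.Prime) (hvs : v ≠ s) (hvt : v ≠ t) (hst : s ≠ t) (h1 : v ∣ Nat.card (Matrix.symplecticGroup (Fin k) F))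
    (h2 : s ∣ Nat.card (Matrix.symplecticGroup (Fin l) F)) (h3 : t ∣ Nat.card (Matrix.symplecticGroup (Fin l) F)) :
    ¬ SCC (PSp (k + l) F) v := by
  have := Fact.mk hv
  have := Fact.mk hs
  have := Fact.mk ht
  obtain ⟨x, hx⟩ := exists_prime_orderOf_dvd_card' v h1
  obtain ⟨a, ha⟩ := exists_prime_orderOf_dvd_card' s h2
  obtain ⟨b, hb⟩ := exists_prime_orderOf_dvd_card' t h3
  refine not_scc_of_orders' (x := H999.FxPSp.i1 k l F x) (a := H999.FxPSp.i2 k l F a) (b := H999.FxPSp.i2 k l F b)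
    hv hs ht hvs hvt hst ?_ ?_ ?_ ?_ ?_
  · rw [orderOf_injective _ (H999.FxPSp.i1_injective hl), hx]
  · rw [orderOf_injective _ (H999.FxPSp.i2_injective hk), ha]
  · rw [orderOf_injective _ (H999.FxPSp.i2_injective hk), hb]
  · exact (H999.FxPSp.i_comm x a).symm
  · exact (H999.FxPSp.i_comm x b).symm

theorem card_sp [Fintype F] (k : ℕ) : Nat.card (Matrix.symplecticGroup (Fin k) F) =
    Fintype.card F ^ (k ^ 2) * ∏ i ∈ Finset.range k, (Fintype.card F ^ (2 * (i + 1)) - 1) :=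
  LieClassical.SympCount.card_symplecticGroup k

theorem dvd_card_sp [Fintype F] {k j v : ℕ} (hj : 1 ≤ j) (hjk : j ≤ k) (h : v ∣ Fintype.card F ^ (2 * j) - 1) :
    v ∣ Nat.card (Matrix.symplecticGroup (Fin k) F) := by
  rw [card_sp]
  refine Dvd.dvd.mul_left ?_ _
  refine h.trans ?_
  have h1 := Finset.dvd_prod_of_mem (fun i => Fintype.card F ^ (2 * (i + 1)) - 1)
    (Finset.mem_range.2 (show j - 1 < k by omega))
  simpa [show j - 1 + 1 = j by omega] using h1

theorem dvd_card_sp_q [Fintype F] {k v : ℕ} (hk : 1 ≤ k) (h : v ∣ Fintype.card F) :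
    v ∣ Nat.card (Matrix.symplecticGroup (Fin k) F) := by
  rw [card_sp]
  exact Dvd.dvd.mul_right (h.trans (dvd_pow_self _ (by positivity))) _

theorem z2 : ∀ x : ZMod 2, x ≠ 0 → x ^ 2 = 1 := by decide

theorem z3 : ∀ x : ZMod 3, x ≠ 0 → x ^ 2 = 1 := by decide

theorem z5 : ∀ x : ZMod 5, x ≠ 0 → x ^ 4 = 1 := by decide

theorem two_three [Fintype F] {k s : ℕ} (hk : 1 ≤ k) (hs : s = 2 ∨ s = 3) :
    s ∣ Nat.card (Matrix.symplecticGroup (Fin k) F) := by
  have hsp : s.Prime := by rcases hs with rfl | rfl <;> norm_num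
  have := Fact.mk hsp
  by_cases h : s ∣ Fintype.card F
  · exact dvd_card_sp_q hk h
  · refine dvd_card_sp (j := 1) le_rfl hk ?_
    have h1 : ((Fintype.card F : ℕ) : ZMod s) ≠ 0 := by rwa [Ne, ZMod.natCast_eq_zero_iff]
    have h2 : ((Fintype.card F : ℕ) : ZMod s) ^ 2 = 1 := by
      rcases hs with rfl | rfl
      · exact z2 _ h1
      · exact z3 _ h1
    rw [← ZMod.natCast_eq_zero_iff, Nat.cast_sub (Nat.one_le_pow _ _ Fintype.card_pos)]
    push_cast
    rw [h2, sub_self]

theorem five [Fintype F] {k : ℕ} (hk : 2 ≤ k) : 5 ∣ Nat.card (Matrix.symplecticGroup (Fin k) F) := by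
  have := Fact.mk (show Nat.Prime 5 by norm_num)
  by_cases h : 5 ∣ Fintype.card F
  · exact dvd_card_sp_q (by omega) h
  · refine dvd_card_sp (j := 2) (by norm_num) hk ?_
    have h1 : ((Fintype.card F : ℕ) : ZMod 5) ≠ 0 := by rwa [Ne, ZMod.natCast_eq_zero_iff]
    have h2 : ((Fintype.card F : ℕ) : ZMod 5) ^ 4 = 1 := z5 _ h1
    rw [← ZMod.natCast_eq_zero_iff, Nat.cast_sub (Nat.one_le_pow _ _ Fintype.card_pos)]
    push_cast
    rw [h2, sub_self]

/-- primes dividing `|Sp_2(m-1)(q)|` -/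
theorem not_scc_small [Fintype F] (hm : 3 ≤ m) {v : ℕ} (hv : v.Prime)
    (h : v ∣ Nat.card (Matrix.symplecticGroup (Fin (m - 1)) F)) : ¬ SCC (PSp m F) v := by
  by_cases h1 : v ∣ Nat.card (Matrix.symplecticGroup (Fin 1) F)
  · obtain ⟨l, rfl⟩ : ∃ l, m = 1 + l := ⟨m - 1, by omega⟩
    have hl : 2 ≤ l := by omega
    by_cases h2 : v = 2
    · subst h2
      exact not_scc_block (s := 3) (t := 5) le_rfl (by omega) hv (by norm_num) (by norm_num) (by norm_num) (by norm_num)
        (by norm_num) h1 (two_three (by omega) (Or.inr rfl)) (five hl)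
    by_cases h3 : v = 3
    · subst h3
      exact not_scc_block (s := 2) (t := 5) le_rfl (by omega) hv (by norm_num) (by norm_num) (by norm_num) (by norm_num)
        (by norm_num) h1 (two_three (by omega) (Or.inl rfl)) (five hl)
    · exact not_scc_block (s := 2) (t := 3) le_rfl (by omega) hv (by norm_num) (by norm_num) h2 h3
        (by norm_num) h1 (two_three (by omega) (Or.inl rfl)) (two_three (by omega) (Or.inr rfl))
  · obtain ⟨k, rfl⟩ : ∃ k, m = k + 1 := ⟨m - 1, by omega⟩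
    rw [Nat.add_sub_cancel] at h
    have h2 : v ≠ 2 := by
      rintro rfl
      exact h1 (two_three le_rfl (Or.inl rfl))
    have h3 : v ≠ 3 := by
      rintro rfl
      exact h1 (two_three le_rfl (Or.inr rfl))
    exact not_scc_block (s := 2) (t := 3) (by omega) le_rfl hv (by norm_num) (by norm_num) h2 h3
      (by norm_num) h (two_three (by omega) (Or.inl rfl)) (two_three (by omega) (Or.inr rfl))

/-- the other primes -/
theorem big_prime [Fintype F] (hm : 3 ≤ m) {v : ℕ} (hv : v.Prime)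
    (hd : v ∣ Nat.card (Matrix.symplecticGroup (Fin m) F))
    (h : ¬ v ∣ Nat.card (Matrix.symplecticGroup (Fin (m - 1)) F)) :
    7 ≤ v ∧ (Od (Fintype.card F) (2 * m) v ∨ (Odd m ∧ Od (Fintype.card F) m v)) := by
  have := Fact.mk hv
  have hq : ¬ v ∣ Fintype.card F := fun h1 => h (dvd_card_sp_q (by omega) h1)
  have h2 : v ≠ 2 := by
    rintro rfl
    exact h (two_three (by omega) (Or.inl rfl))
  have hj : ∀ j, 1 ≤ j → j < m → ¬ v ∣ Fintype.card F ^ (2 * j) - 1 := fun j h1 h2 h3 =>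
    h (dvd_card_sp h1 (by omega) h3)
  have hdm : v ∣ Fintype.card F ^ (2 * m) - 1 := by
    rw [card_sp] at hd
    rcases hv.dvd_mul.1 hd with h1 | h1
    · exact absurd (hv.dvd_of_dvd_pow h1) hq
    · obtain ⟨i, hi, h3⟩ := (hv.prime.dvd_finsetProd_iff _).1 h1
      have hi' := Finset.mem_range.1 hi
      by_cases h4 : i + 1 = m
      · rwa [h4] at h3
      · exact absurd h3 (hj (i + 1) (by omega) (by omega))
  have hOd : Od (Fintype.card F) (orderOf ((Fintype.card F : ℕ) : ZMod v)) v := ⟨hv, rfl, hq⟩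
  obtain ⟨e, he⟩ : ∃ e, e = orderOf ((Fintype.card F : ℕ) : ZMod v) := ⟨_, rfl⟩
  rw [← he] at hOd
  have he0 : 0 < e := hOd.pos
  have hq1 : 1 ≤ Fintype.card F := Fintype.card_pos
  have hem : e ∣ 2 * m := (hOd.dvd_iff hq1 _).1 hdm
  have hpred := hOd.dvd_pred
  have hvodd : Odd v := hv.odd_of_ne_two h2
  by_cases h2m : e = 2 * m
  · subst h2m
    have := hOd.lt
    exact ⟨by omega, Or.inl hOd⟩
  · have hodd : Odd e := by
      rw [← Nat.not_even_iff_odd]
      rintro ⟨j, hj'⟩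
      have h3 := Nat.le_of_dvd (by omega) hem
      exact hj j (by omega) (by omega) ((hOd.dvd_iff hq1 _).2 (by rw [hj', two_mul]))
    have h3 : e ∣ m := (Nat.Coprime.dvd_of_dvd_mul_left (Nat.Coprime.symm (Nat.coprime_two_left.2 hodd)) hem)
    have h4 : e = m := by
      by_contra hne
      have h5 := Nat.le_of_dvd (by omega) h3
      exact hj e he0 (by omega) ((hOd.dvd_iff hq1 _).2 (Dvd.intro_left 2 rfl))
    subst h4
    refine ⟨?_, Or.inr ⟨hodd, hOd⟩⟩
    have h5 : 2 * e ∣ v - 1 := by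
      apply Nat.Coprime.mul_dvd_of_dvd_of_dvd (Nat.coprime_two_left.2 hodd) _ hpred
      obtain ⟨j, hj'⟩ := hvodd
      exact ⟨j, by omega⟩
    have := Nat.le_of_dvd (by have := hv.two_le; omega) h5
    omega

/-- **`NTC (PSp_2m(q))`**, `m ≥ 3`, `(m, q) ≠ (3, 2), (3, 3), (4, 2)` -/
theorem ntc [Fintype F] (hm : 3 ≤ m) (h32 : ¬ (m = 3 ∧ Fintype.card F = 2))
    (h42 : ¬ (m = 4 ∧ Fintype.card F = 2)) (h33 : ¬ (m = 3 ∧ Fintype.card F = 3)) : NTC (PSp m F) := by
  intro v hv hd
  have hd' : v ∣ Nat.card (Matrix.symplecticGroup (Fin m) F) :=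
    hd.trans (Subgroup.card_quotient_dvd_card _)
  by_cases h : v ∣ Nat.card (Matrix.symplecticGroup (Fin (m - 1)) F)
  · exact not_scc_small hm hv h
  obtain ⟨h7, h1 | ⟨hodd, h1⟩⟩ := big_prime hm hv hd' h
  · obtain ⟨A, hA, hR⟩ := tor_minus (F := F) (m := m) (by omega) h1
    refine not_scc_tor hm h32 h42 h33 hR (by rw [hA]; omega) hv h7 ?_
    rw [hA]
    have hq1 : 1 ≤ Fintype.card F := Fintype.card_pos
    have h3 : v ∣ Fintype.card F ^ (2 * m) - 1 := (h1.dvd_iff hq1 _).2 dvd_rfl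
    have h4 : ¬ v ∣ Fintype.card F ^ m - 1 := by
      rw [h1.dvd_iff hq1]
      intro h5
      have := Nat.le_of_dvd (by omega) h5
      omega
    have h5 : Fintype.card F ^ (2 * m) - 1 = (Fintype.card F ^ m + 1) * (Fintype.card F ^ m - 1) := by
      rw [mul_comm 2 m, pow_mul]
      have := Nat.sq_sub_sq (Fintype.card F ^ m) 1
      simpa using this
    rw [h5] at h3
    exact (hv.dvd_mul.1 h3).resolve_right h4
  · obtain ⟨A, hA, hR⟩ := tor_plus (F := F) (m := m) (by omega)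
    refine not_scc_tor hm h32 h42 h33 hR (by rw [hA]) hv h7 ?_
    rw [hA]
    exact (h1.dvd_iff Fintype.card_pos _).2 dvd_rfl

end Cfsg.Agent.H901.Der
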