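import Cfsg.Agent.H439.Der.Three
import Cfsg.Agent.ClassicalGeometry.SympAutOddA
import Cfsg.Agent.ClassicalGeometry.SympAutExists
import Cfsg.Agent.H376.SpEmb

/-!
# Automorphisms of `PSp_2m(q)` and classes in a torus (helper901, for S3502 / S3500)

* `semi` : every automorphism of `PSp_2m(q)`, `m ≥ 3`, comes from a semisimilarity
* `Rig A` : every power of `A` with an eigenvalue `±1` is central
* `class_bound` : an `Aut`-class meets `⟨A⟩` in at most `f * 2m` elements
* `scc_bound` : `SCC (PSp m F) v → c - c / v ≤ 4 * m * f`, `c` the order of `A` in `PSp`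
-/

set_option autoImplicit false

namespace Cfsg.Agent.H901.Der

open Cfsg Subgroup Polynomial Cfsg.Agent.H439.Der
open Cfsg.Agent.ClassicalGeometry.SympAutSemi
open scoped MatrixGroups Matrix

section semilin

variable {ι : Type} [Fintype ι] [DecidableEq ι] {F : Type*} [Field F]

theorem charpoly_semi {σ : F ≃+* F} {T : (ι → F) → (ι → F)} (hT : Function.Surjective T)
    (ha : ∀ u v, T (u + v) = T u + T v) (hs : ∀ (c : F) (v : ι → F), T (c • v) = σ c • T v)
    {A B : Matrix ι ι F} (h : ∀ v, B *ᵥ T v = T (A *ᵥ v)) : B.charpoly = A.charpoly.map (σ : F →+* F) := by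
  let P : Matrix ι ι F := Matrix.of fun i j => T (Pi.single j 1) i
  have hsum : ∀ (f : ι → (ι → F)), T (∑ j, f j) = ∑ j, T (f j) := by
    intro f
    let T' : (ι → F) →+ (ι → F) := AddMonoidHom.mk' T ha
    exact map_sum T' f _
  have hP : ∀ v : ι → F, T v = P *ᵥ (fun i => σ (v i)) := by
    intro v
    have h1 : v = ∑ j, v j • (Pi.single j (1 : F) : ι → F) := by
      ext i
      simp [Finset.sum_apply, Pi.single_apply]
    conv_lhs => rw [h1]
    rw [hsum]
    ext i
    rw [Finset.sum_apply, Matrix.mulVec, dotProduct]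
    refine Finset.sum_congr rfl fun j _ => ?_
    rw [hs, Pi.smul_apply, smul_eq_mul, mul_comm]
    rfl
  have hunit : IsUnit P := by
    rw [← Matrix.mulVec_surjective_iff_isUnit]
    intro y
    obtain ⟨v, rfl⟩ := hT y
    exact ⟨_, (hP v).symm⟩
  obtain ⟨U, hU⟩ := hunit
  have h2 : B * P = P * A.map σ := by
    apply Matrix.ext_of_mulVec_single
    intro j
    rw [← Matrix.mulVec_mulVec, ← Matrix.mulVec_mulVec]
    have h3 : P *ᵥ (Pi.single j 1) = T (Pi.single j 1) := by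
      rw [hP]
      congr 1
      ext i
      by_cases hij : i = j
      · subst hij; simp
      · simp [hij]
    rw [h3, h, hP]
    congr 1
    ext i
    simp [Matrix.mulVec_single]
  have h3 : B = (U : Matrix ι ι F) * A.map σ * ((U⁻¹ : (Matrix ι ι F)ˣ) : Matrix ι ι F) := by
    rw [hU, ← h2, ← hU, mul_assoc, Units.mul_inv, mul_one]
  rw [h3, Matrix.coe_units_inv, Matrix.charpoly_units_conj]
  exact Matrix.charpoly_map A (σ : F →+* F)

end semilin

variable {F : Type} [Field F] {m : ℕ}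

/-- every automorphism of `PSp_2m(q)`, `m ≥ 3`, comes from a semisimilarity -/
theorem semi [Finite F] (hm : 3 ≤ m) (α : MulAut (PSp m F)) :
    ∃ (σ : F ≃+* F) (μ : F) (T : Equiv.Perm (Fin m ⊕ Fin m → F)), μ ≠ 0 ∧ IsSemi T σ μ ∧
      ∀ A : Matrix.symplecticGroup (Fin m) F, ∃ B : Matrix.symplecticGroup (Fin m) F,
        (∀ v, (B : Matrix (Fin m ⊕ Fin m) (Fin m ⊕ Fin m) F) *ᵥ T v =
          T ((A : Matrix (Fin m ⊕ Fin m) (Fin m ⊕ Fin m) F) *ᵥ v)) ∧
        α (QuotientGroup.mk A) = QuotientGroup.mk B := by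
  obtain ⟨g, hg⟩ := Cfsg.Agent.ClassicalGeometry.SympAutExists.exists_semi (by omega) α
    (Cfsg.Agent.ClassicalGeometry.SympAutOddA.recog (by omega) (Or.inl hm) α)
  obtain ⟨σ, μ, hμ, hs⟩ := g.2
  refine ⟨σ, μ, g.1, hμ, hs, fun A => ⟨conjHom m F g A, fun v => ?_, ?_⟩⟩
  · rw [← rho_apply, rho_conjHom, Equiv.Perm.mul_apply, Equiv.Perm.mul_apply, perm_inv_apply_self, rho_apply]
  · rw [← hg, Psi_mk]

/-- every power of `A` with an eigenvalue `±1` is central -/
def Rig (A : Matrix.symplecticGroup (Fin m) F) : Prop :=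
  ∀ (k : ℕ) (c : F), c = 1 ∨ c = -1 → ∀ v : Fin m ⊕ Fin m → F, v ≠ 0 →
    ((A ^ k : Matrix.symplecticGroup (Fin m) F) : Matrix (Fin m ⊕ Fin m) (Fin m ⊕ Fin m) F) *ᵥ v = c • v →
    A ^ k ∈ center (Matrix.symplecticGroup (Fin m) F)

theorem coe_pow (A : Matrix.symplecticGroup (Fin m) F) (k : ℕ) :
    ((A ^ k : Matrix.symplecticGroup (Fin m) F) : Matrix (Fin m ⊕ Fin m) (Fin m ⊕ Fin m) F) =
      (A : Matrix (Fin m ⊕ Fin m) (Fin m ⊕ Fin m) F) ^ k := by
  induction k with
  | zero => rfl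
  | succ n ih => rw [pow_succ, pow_succ, ← ih]; rfl

/-- an eigenvalue over an extension field which lies in `F` is an eigenvalue over `F` -/
theorem exists_vec {ι : Type} [Fintype ι] [DecidableEq ι] {K : Type*} [Field K] (i : F →+* K) (M : Matrix ι ι F) (c : F)
    {w : ι → K} (hw : w ≠ 0) (h : (M.map i) *ᵥ w = i c • w) : ∃ v : ι → F, v ≠ 0 ∧ M *ᵥ v = c • v := by
  have h1 : ((M - Matrix.scalar ι c).map i).det = 0 := by
    rw [← Matrix.exists_mulVec_eq_zero_iff]
    refine ⟨w, hw, ?_⟩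
    have h2 : (M - Matrix.scalar ι c).map i = M.map i - Matrix.scalar ι (i c) := by
      rw [Matrix.map_sub _ (map_sub i)]
      congr 1
      ext a b
      simp [Matrix.scalar, Matrix.diagonal_apply, apply_ite i]
    rw [h2, Matrix.sub_mulVec, h, sub_eq_zero]
    ext a
    simp [Matrix.scalar, Matrix.mulVec_diagonal]
  have h3 : (M - Matrix.scalar ι c).det = 0 := by
    have h4 : i ((M - Matrix.scalar ι c).det) = 0 := by
      rw [← h1]
      exact RingHom.map_det i _
    exact (map_eq_zero i).1 h4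
  obtain ⟨v, hv, hv0⟩ := Matrix.exists_mulVec_eq_zero_iff.2 h3
  refine ⟨v, hv, ?_⟩
  rw [Matrix.sub_mulVec, sub_eq_zero] at hv0
  rw [hv0]
  ext a
  simp [Matrix.scalar, Matrix.mulVec_diagonal]

theorem root_of_vec {ι : Type} [Fintype ι] [DecidableEq ι] {K : Type*} [Field K] (M : Matrix ι ι K) (c : K)
    {w : ι → K} (hw : w ≠ 0) (h : M *ᵥ w = c • w) : c ∈ M.charpoly.roots := by
  rw [mem_roots (Matrix.charpoly_monic M).ne_zero, IsRoot.def, Matrix.eval_charpoly]
  rw [← Matrix.exists_mulVec_eq_zero_iff]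
  refine ⟨w, hw, ?_⟩
  rw [Matrix.sub_mulVec, h, sub_eq_zero]
  ext a
  simp [Matrix.scalar, Matrix.mulVec_diagonal]

theorem exists_vec_alg {ι : Type} [Fintype ι] [DecidableEq ι] [Nonempty ι] {K : Type*} [Field K] [IsAlgClosed K]
    (M : Matrix ι ι K) : ∃ (c : K) (w : ι → K), w ≠ 0 ∧ M *ᵥ w = c • w := by
  obtain ⟨c, hc⟩ := IsAlgClosed.exists_root M.charpoly (by
    rw [Matrix.charpoly_degree_eq_dim]
    exact_mod_cast Fintype.card_ne_zero)
  rw [IsRoot.def, Matrix.eval_charpoly, ← Matrix.exists_mulVec_eq_zero_iff] at hc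
  obtain ⟨w, hw, h⟩ := hc
  refine ⟨c, w, hw, ?_⟩
  rw [Matrix.sub_mulVec, sub_eq_zero] at h
  rw [← h]
  ext a
  simp [Matrix.scalar, Matrix.mulVec_diagonal]

theorem class_bound [Fintype F] (hm : 3 ≤ m) {A : Matrix.symplecticGroup (Fin m) F} (hR : Rig A) (z0 : PSp m F) :
    Set.ncard {z : PSp m F | z ∈ zpowers (QuotientGroup.mk A : PSp m F) ∧ ∃ α : PSp m F ≃* PSp m F, α z0 = z} ≤
      Nat.card (F ≃+* F) * (2 * m) := by
  classical
  let K := AlgebraicClosure F
  let i : F →+* K := algebraMap F K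
  have hne : Nonempty (Fin m ⊕ Fin m) := ⟨Sum.inl ⟨0, by omega⟩⟩
  have hfin : Finite (F ≃+* F) := Finite.of_injective (fun f : F ≃+* F => (f : F → F)) DFunLike.coe_injective
  have hfa : Fintype (F ≃+* F) := Fintype.ofFinite _
  obtain ⟨η, w, hw, hη⟩ := exists_vec_alg ((A : Matrix (Fin m ⊕ Fin m) (Fin m ⊕ Fin m) F).map i)
  have hpow : ∀ k : ℕ, (((A ^ k : Matrix.symplecticGroup (Fin m) F) :
      Matrix (Fin m ⊕ Fin m) (Fin m ⊕ Fin m) F).map i) *ᵥ w = η ^ k • w := by
    intro k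
    induction k with
    | zero =>
      rw [pow_zero, pow_zero, one_smul]
      show ((1 : Matrix (Fin m ⊕ Fin m) (Fin m ⊕ Fin m) F).map i) *ᵥ w = w
      rw [Matrix.map_one _ (map_zero i) (map_one i), Matrix.one_mulVec]
    | succ n ih =>
      rw [pow_succ]
      show (((A ^ n : Matrix.symplecticGroup (Fin m) F) : Matrix (Fin m ⊕ Fin m) (Fin m ⊕ Fin m) F) *
        (A : Matrix (Fin m ⊕ Fin m) (Fin m ⊕ Fin m) F)).map i *ᵥ w = _
      rw [Matrix.map_mul, ← Matrix.mulVec_mulVec, hη, Matrix.mulVec_smul, ih, smul_smul, pow_succ, mul_comm]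
  have hη0 : η ≠ 0 := by
    rintro rfl
    have h1 := hpow (orderOf A)
    rw [pow_orderOf_eq_one, zero_pow (orderOf_pos A).ne', zero_smul] at h1
    apply hw
    rw [← h1]
    show w = ((1 : Matrix (Fin m ⊕ Fin m) (Fin m ⊕ Fin m) F).map i) *ᵥ w
    rw [Matrix.map_one _ (map_zero i) (map_one i), Matrix.one_mulVec]
  obtain ⟨C0, rfl⟩ := QuotientGroup.mk_surjective z0
  let R : (F ≃+* F) → Finset K := fun σ =>
    (((C0 : Matrix (Fin m ⊕ Fin m) (Fin m ⊕ Fin m) F).charpoly.map (σ : F →+* F)).map i).roots.toFinset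
  have hRc : ∀ σ, (R σ).card ≤ 2 * m := by
    intro σ
    refine (Multiset.toFinset_card_le _).trans ((card_roots' _).trans ?_)
    rw [natDegree_map, natDegree_map, Matrix.charpoly_natDegree_eq_dim, Fintype.card_sum, Fintype.card_fin]
    omega
  let t : Finset (Σ _ : F ≃+* F, K) := Finset.univ.sigma R
  have ht : t.card ≤ Nat.card (F ≃+* F) * (2 * m) := by
    rw [Finset.card_sigma, Nat.card_eq_fintype_card]
    refine (Finset.sum_le_sum fun σ _ => hRc σ).trans ?_
    rw [Finset.sum_const, Finset.card_univ, smul_eq_mul]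
  have key : ∀ z ∈ {z : PSp m F | z ∈ zpowers (QuotientGroup.mk A : PSp m F) ∧
      ∃ α : PSp m F ≃* PSp m F, α (QuotientGroup.mk C0) = z}, ∃ p : (Σ _ : F ≃+* F, K), p ∈ t ∧ ∃ (j : ℕ) (c : F),
        (c = 1 ∨ c = -1) ∧ z = QuotientGroup.mk (A ^ j) ∧ p.2 = i c * η ^ j := by
    rintro z ⟨hz, α, hα⟩
    have hz' : z ∈ Submonoid.powers (QuotientGroup.mk A : PSp m F) := mem_powers_iff_mem_zpowers.2 hz
    obtain ⟨j, hj⟩ := hz'
    obtain ⟨σ, μ, T, hμ, hs, hB⟩ := semi hm α
    obtain ⟨B, hB1, hB2⟩ := hB C0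
    have h1 : (QuotientGroup.mk B : PSp m F) = QuotientGroup.mk (A ^ j) := by
      rw [← hB2, hα, ← hj]
      rfl
    rw [QuotientGroup.eq] at h1
    have h2 := Cfsg.Agent.ClassicalGeometry.SympInvolutions.center_eq h1
    obtain ⟨c, hc, hcB⟩ : ∃ c : F, (c = 1 ∨ c = -1) ∧ (B : Matrix (Fin m ⊕ Fin m) (Fin m ⊕ Fin m) F) =
        c • ((A ^ j : Matrix.symplecticGroup (Fin m) F) : Matrix (Fin m ⊕ Fin m) (Fin m ⊕ Fin m) F) := by
      have h3 : A ^ j = B * (B⁻¹ * A ^ j) := by group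
      have h4 : ((A ^ j : Matrix.symplecticGroup (Fin m) F) : Matrix (Fin m ⊕ Fin m) (Fin m ⊕ Fin m) F) =
          (B : Matrix (Fin m ⊕ Fin m) (Fin m ⊕ Fin m) F) *
            ((B⁻¹ * A ^ j : Matrix.symplecticGroup (Fin m) F) : Matrix (Fin m ⊕ Fin m) (Fin m ⊕ Fin m) F) := by
        conv_lhs => rw [h3]
        rfl
      rcases h2 with h2 | h2
      · exact ⟨1, Or.inl rfl, by rw [h4, h2, mul_one, one_smul]⟩
      · exact ⟨-1, Or.inr rfl, by rw [h4, h2, mul_neg, mul_one, neg_smul, one_smul, neg_neg]⟩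
    refine ⟨⟨σ, i c * η ^ j⟩, ?_, j, c, hc, ?_, rfl⟩
    · simp only [t, Finset.mem_sigma, Finset.mem_univ, true_and, R, Multiset.mem_toFinset]
      have h5 : (B : Matrix (Fin m ⊕ Fin m) (Fin m ⊕ Fin m) F).charpoly =
          (C0 : Matrix (Fin m ⊕ Fin m) (Fin m ⊕ Fin m) F).charpoly.map (σ : F →+* F) :=
        charpoly_semi T.surjective hs.1 hs.2.1 hB1
      rw [← h5, ← Matrix.charpoly_map]
      refine root_of_vec _ _ hw ?_
      rw [hcB]
      have h6 : (c • ((A ^ j : Matrix.symplecticGroup (Fin m) F) :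
          Matrix (Fin m ⊕ Fin m) (Fin m ⊕ Fin m) F)).map i = i c • (((A ^ j : Matrix.symplecticGroup (Fin m) F) :
          Matrix (Fin m ⊕ Fin m) (Fin m ⊕ Fin m) F).map i) := by
        ext a b
        simp
      rw [h6, Matrix.smul_mulVec, hpow, smul_smul]
    · rw [← hj]
      rfl
  choose! g hg using key
  have hle := Set.ncard_le_ncard_of_injOn (s := {z : PSp m F | z ∈ zpowers (QuotientGroup.mk A : PSp m F) ∧
      ∃ α : PSp m F ≃* PSp m F, α (QuotientGroup.mk C0) = z}) (t := (t : Set (Σ _ : F ≃+* F, K))) g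
    (fun z hz => (hg z hz).1) ?_ (Finset.finite_toSet t)
  · rw [Set.ncard_coe_finset] at hle
    exact hle.trans ht
  · intro z hz z' hz' hzz
    obtain ⟨-, j, c, hc, hj, hp⟩ := hg z hz
    obtain ⟨-, j', c', hc', hj', hp'⟩ := hg z' hz'
    have h1 : i c * η ^ j = i c' * η ^ j' := by rw [← hp, ← hp', hzz]
    -- the symmetric step
    have step : ∀ {j j' : ℕ} {c c' : F}, (c = 1 ∨ c = -1) → (c' = 1 ∨ c' = -1) → j ≤ j' →
        i c * η ^ j = i c' * η ^ j' → (QuotientGroup.mk (A ^ j) : PSp m F) = QuotientGroup.mk (A ^ j') := by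
      intro j j' c c' hc hc' hjj h1
      obtain ⟨k, rfl⟩ := Nat.exists_eq_add_of_le hjj
      have h2 : η ^ k = i (c' * c) := by
        have h3 : i c = i c' * η ^ k := by
          have h4 : η ^ j ≠ 0 := pow_ne_zero _ hη0
          apply mul_right_cancel₀ h4
          rw [h1, pow_add]
          ring
        rw [map_mul, h3, ← mul_assoc, ← map_mul]
        have h5 : c' * c' = 1 := by rcases hc' with rfl | rfl <;> ring
        rw [h5, map_one, one_mul]
      have h3 := hpow k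
      rw [h2] at h3
      obtain ⟨v, hv, hv'⟩ := exists_vec i _ _ hw h3
      have h4 := hR k (c' * c) (by
        rcases hc with rfl | rfl <;> rcases hc' with rfl | rfl
        · left; ring
        · right; ring
        · right; ring
        · left; ring) v hv hv'
      rw [QuotientGroup.eq, pow_add, inv_mul_cancel_left]
      exact h4
    rw [hj, hj']
    rcases le_total j j' with h | h
    · exact step hc hc' h h1
    · exact (step hc' hc h h1.symm).symm

theorem ncard_pow_eq_one_le {G : Type*} [Group G] [Finite G] (a : G) {k : ℕ} (hk : 0 < k) :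
    Set.ncard {z : G | z ∈ zpowers a ∧ z ^ k = 1} ≤ k := by
  classical
  have hf : Fintype (zpowers a) := Fintype.ofFinite _
  have h1 := IsCyclic.card_pow_eq_one_le (α := zpowers a) hk
  have h2 : {z : G | z ∈ zpowers a ∧ z ^ k = 1} =
      Subtype.val '' {z : zpowers a | z ^ k = 1} := by
    ext z
    constructor
    · rintro ⟨hz, hz1⟩
      exact ⟨⟨z, hz⟩, Subtype.ext hz1, rfl⟩
    · rintro ⟨⟨z, hz⟩, hz1, rfl⟩
      exact ⟨hz, congrArg Subtype.val hz1⟩
  rw [h2]
  refine (Set.ncard_image_le (Set.toFinite _)).trans (le_trans (le_of_eq ?_) h1)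
  rw [← Set.ncard_coe_finset]
  congr 1
  ext z
  simp

/-- **The class count**: two `Aut`-classes of elements of order divisible by `v`. -/
theorem scc_bound [Fintype F] (hm : 3 ≤ m) {A : Matrix.symplecticGroup (Fin m) F} (hR : Rig A) {v c : ℕ}
    (hv : v.Prime) (hc : orderOf (QuotientGroup.mk A : PSp m F) = c) (hvc : v ∣ c) (h : SCC (PSp m F) v) :
    c ≤ c / v + Nat.card (F ≃+* F) * (4 * m) := by
  classical
  have hfin : Finite (PSp m F) := Quotient.finite _
  obtain ⟨x, y, hxy⟩ := h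
  set a : PSp m F := QuotientGroup.mk A with ha
  have hc0 : 0 < c := by rw [← hc]; exact orderOf_pos a
  obtain ⟨k, hk⟩ := hvc
  have hk0 : 0 < k := Nat.pos_of_ne_zero (by rintro rfl; omega)
  have hkc : c / v = k := by rw [hk, Nat.mul_div_cancel_left _ hv.pos]
  have hsub : ((zpowers a : Subgroup (PSp m F)) : Set (PSp m F)) ⊆
      ({z : PSp m F | z ∈ zpowers a ∧ z ^ k = 1} ∪
        {z : PSp m F | z ∈ zpowers a ∧ ∃ α : PSp m F ≃* PSp m F, α x = z}) ∪
        {z : PSp m F | z ∈ zpowers a ∧ ∃ α : PSp m F ≃* PSp m F, α y = z} := by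
    intro z hz
    by_cases hvz : v ∣ orderOf z
    · rcases hxy z hvz with h1 | h1
      · exact Or.inl (Or.inr ⟨hz, h1⟩)
      · exact Or.inr ⟨hz, h1⟩
    · refine Or.inl (Or.inl ⟨hz, ?_⟩)
      rw [← orderOf_dvd_iff_pow_eq_one]
      have h1 : orderOf z ∣ v * k := by
        have h2 := Subgroup.orderOf_dvd_natCard _ hz
        rwa [Nat.card_zpowers, hc, hk] at h2
      exact (Nat.Coprime.dvd_of_dvd_mul_left ((hv.coprime_iff_not_dvd.2 hvz).symm) h1)
  have h1 := Set.ncard_le_ncard hsub (Set.toFinite _)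
  have h2 := Set.ncard_union_le ({z : PSp m F | z ∈ zpowers a ∧ z ^ k = 1} ∪
        {z : PSp m F | z ∈ zpowers a ∧ ∃ α : PSp m F ≃* PSp m F, α x = z})
        {z : PSp m F | z ∈ zpowers a ∧ ∃ α : PSp m F ≃* PSp m F, α y = z}
  have h3 := Set.ncard_union_le {z : PSp m F | z ∈ zpowers a ∧ z ^ k = 1}
        {z : PSp m F | z ∈ zpowers a ∧ ∃ α : PSp m F ≃* PSp m F, α x = z}
  have h4 := ncard_pow_eq_one_le a hk0
  have h5 : Set.ncard {z : PSp m F | z ∈ zpowers a ∧ ∃ α : PSp m F ≃* PSp m F, α x = z} ≤ _ := class_bound hm hR x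
  have h6 : Set.ncard {z : PSp m F | z ∈ zpowers a ∧ ∃ α : PSp m F ≃* PSp m F, α y = z} ≤ _ := class_bound hm hR y
  have h7 : Set.ncard ((zpowers a : Subgroup (PSp m F)) : Set (PSp m F)) = c := by
    rw [← Nat.card_coe_set_eq, ← hc]
    exact Nat.card_zpowers a
  rw [h7] at h1
  rw [hkc]
  have h8 : Nat.card (F ≃+* F) * (4 * m) = Nat.card (F ≃+* F) * (2 * m) + Nat.card (F ≃+* F) * (2 * m) := by ring
  omega

end Cfsg.Agent.H901.Der
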