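import Cfsg.Agent.H901.Der.TvAll
import Cfsg.Agent.H262.ElSymp

/-!
# Subgroups of `Sp₆(3)` with a transvection and elements of orders `7` or `13` and `5` (S3502)
-/

set_option autoImplicit false
set_option linter.unusedSectionVars false

namespace Cfsg.Agent.H901.Der

open Module Cfsg Cfsg.Agent.ClassicalGeometry.SympBasic Cfsg.Agent.H876 Cfsg.Agent.H931 Cfsg.Agent.H262.El
open scoped Matrix MatrixGroups

section le

variable {F : Type*} [Field F] {ι : Type*} [Fintype ι] [DecidableEq ι]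

/-- a matrix as a linear equivalence -/
noncomputable def toLE : GL ι F →* ((ι → F) ≃ₗ[F] (ι → F)) :=
  (LinearMap.GeneralLinearGroup.generalLinearEquiv F (ι → F)).toMonoidHom.comp
    (Matrix.GeneralLinearGroup.toLin (n := ι) (R := F)).toMonoidHom

theorem toLE_apply (A : GL ι F) (v : ι → F) : toLE A v = (A : Matrix ι ι F) *ᵥ v := rfl

theorem toLE_injective : Function.Injective (toLE (F := F) (ι := ι)) := by
  intro A B h
  apply Units.ext
  apply Matrix.toLin'.injective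
  apply LinearMap.ext
  intro v
  rw [Matrix.toLin'_apply, Matrix.toLin'_apply, ← toLE_apply, ← toLE_apply, h]

end le

/-- the symplectic form as a bilinear form -/
noncomputable def sB (m : ℕ) (F : Type*) [Field F] : LinearMap.BilinForm F (Fin m ⊕ Fin m → F) :=
  Matrix.toBilin' (Matrix.J (Fin m) F)

theorem sB_apply {m : ℕ} {F : Type*} [Field F] (u v : Fin m ⊕ Fin m → F) : sB m F u v = sympForm m F u v :=
  Matrix.toBilin'_apply' _ _ _

abbrev V6 := Fin 3 ⊕ Fin 3 → ZMod 3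

theorem od7 : Od 3 6 7 := ⟨by norm_num, by
  rw [orderOf_eq_iff (by norm_num)]
  refine ⟨by decide, fun m hm hm0 => ?_⟩
  interval_cases m <;> decide, by norm_num⟩

theorem od13 : Od 3 3 13 := ⟨by norm_num, by
  rw [orderOf_eq_iff (by norm_num)]
  refine ⟨by decide, fun m hm hm0 => ?_⟩
  interval_cases m <;> decide, by norm_num⟩

theorem od5 : Od 3 4 5 := ⟨by norm_num, by
  rw [orderOf_eq_iff (by norm_num)]
  refine ⟨by decide, fun m hm hm0 => ?_⟩
  interval_cases m <;> decide, by norm_num⟩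

theorem sp6_irr_seven {x : GL (Fin 3 ⊕ Fin 3) (ZMod 3)} (hx : x ^ 7 = 1) (hx1 : x ≠ 1) (W : Submodule (ZMod 3) V6)
    (hW : ∀ v ∈ W, (x : Matrix (Fin 3 ⊕ Fin 3) (Fin 3 ⊕ Fin 3) (ZMod 3)) *ᵥ v ∈ W) : W = ⊥ ∨ W = ⊤ :=
  irr_of_od (by
    rw [ZMod.card, Fintype.card_sum, Fintype.card_fin]
    exact od7) hx hx1 W hW

theorem sp6_irr_thirteen {x y : GL (Fin 3 ⊕ Fin 3) (ZMod 3)} (hxs : x ∈ spGL 3 (ZMod 3)) (_hys : y ∈ spGL 3 (ZMod 3))
    (hx : x ^ 13 = 1) (hx1 : x ≠ 1) (hy : y ^ 5 = 1) (hy1 : y ≠ 1) (W : Submodule (ZMod 3) V6)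
    (hW : ∀ v ∈ W, (x : Matrix (Fin 3 ⊕ Fin 3) (Fin 3 ⊕ Fin 3) (ZMod 3)) *ᵥ v ∈ W)
    (hW' : ∀ v ∈ W, (y : Matrix (Fin 3 ⊕ Fin 3) (Fin 3 ⊕ Fin 3) (ZMod 3)) *ᵥ v ∈ W) : W = ⊥ ∨ W = ⊤ := by
  have hc : Fintype.card (Fin 3 ⊕ Fin 3) = 6 := by simp
  have h13 : Od (Fintype.card (ZMod 3)) 3 13 := by rw [ZMod.card]; exact od13
  have h5 : Od (Fintype.card (ZMod 3)) 4 5 := by rw [ZMod.card]; exact od5
  -- the fixed spaces
  have h1 := finrank_fixS h13 hx
  have h2 := finrank_fixS_lt hx1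
  have h3 := finrank_fixS h5 hy
  have h4 := finrank_fixS_lt hy1
  have h5' := even_fixS hxs (r := 13) (by decide) hx
  rw [hc] at h1 h2 h3 h4
  have hx0 : finrank (ZMod 3) (fixS x) = 0 := by
    obtain ⟨k, hk⟩ := h5'
    omega
  have hxb : fixS x = ⊥ := Submodule.finrank_eq_zero.1 hx0
  have hy2 : finrank (ZMod 3) (fixS y) = 2 := by omega
  -- the invariant subspace
  have h6 : 3 ∣ finrank (ZMod 3) W - finrank (ZMod 3) (W ⊓ fixS x : Submodule (ZMod 3) V6) := finrank_inv h13 hx W hW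
  rw [hxb, inf_bot_eq, finrank_bot, Nat.sub_zero] at h6
  have h7 : 4 ∣ finrank (ZMod 3) W - finrank (ZMod 3) (W ⊓ fixS y : Submodule (ZMod 3) V6) := finrank_inv h5 hy W hW'
  have h8 : finrank (ZMod 3) (W ⊓ fixS y : Submodule (ZMod 3) V6) ≤ 2 := by
    rw [← hy2]
    exact Submodule.finrank_mono inf_le_right
  have h9 : finrank (ZMod 3) (W ⊓ fixS y : Submodule (ZMod 3) V6) ≤ finrank (ZMod 3) W :=
    Submodule.finrank_mono inf_le_left
  have h10 : finrank (ZMod 3) W ≤ 6 := by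
    have := Submodule.finrank_le W
    rwa [Module.finrank_fintype_fun_eq_card, hc] at this
  have h11 : finrank (ZMod 3) W = 0 ∨ finrank (ZMod 3) W = 6 := by
    obtain ⟨k, hk⟩ := h6
    obtain ⟨l, hl⟩ := h7
    have hk2 : k ≤ 2 := by omega
    interval_cases k
    · exact Or.inl (by omega)
    · exfalso; omega
    · exact Or.inr (by omega)
  rcases h11 with h | h
  · exact Or.inl (Submodule.finrank_eq_zero.1 h)
  · refine Or.inr (Submodule.eq_top_of_finrank_eq ?_)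
    rw [h, Module.finrank_fintype_fun_eq_card, hc]

theorem tGL_all {m : ℕ} {R : Subgroup (GL (Fin m ⊕ Fin m) (ZMod 3))} {a : Fin m ⊕ Fin m → ZMod 3} {c : ZMod 3}
    (h : tGL a c ∈ R) (hc : c ≠ 0) (d : ZMod 3) : tGL a d ∈ R := by
  have h1 : ∀ c d : ZMod 3, tGL a c * tGL a d = (tGL a (c + d) : GL (Fin m ⊕ Fin m) (ZMod 3)) := by
    intro c d
    apply toLE_injective
    apply LinearEquiv.ext
    intro x
    rw [map_mul, LinearEquiv.mul_apply, toLE_apply, toLE_apply, toLE_apply, tGL_mulVec, tGL_mulVec, tGL_mulVec,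
      sympForm_add_left, sympForm_smul_left, sympForm_self, mul_zero, add_zero, add_assoc, ← add_smul]
    congr 2
    ring
  have h0 : (tGL a 0 : GL (Fin m ⊕ Fin m) (ZMod 3)) = 1 := tGL_eq_one_of_zero (Or.inr rfl)
  have h2 : tGL a (c + c) ∈ R := by
    rw [← h1]
    exact R.mul_mem h h
  have h3 : d = 0 ∨ d = c ∨ d = c + c := (by decide : ∀ c d : ZMod 3, c ≠ 0 → d = 0 ∨ d = c ∨ d = c + c) c d hc
  rcases h3 with rfl | rfl | rfl
  · rw [h0]; exact R.one_mem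
  · exact h
  · exact h2

theorem sp6_full {R : Subgroup (GL (Fin 3 ⊕ Fin 3) (ZMod 3))} (hR : R ≤ spGL 3 (ZMod 3))
    (hdiv : (∃ x ∈ R, x ^ 7 = 1 ∧ x ≠ 1) ∨ ((∃ x ∈ R, x ^ 13 = 1 ∧ x ≠ 1) ∧ ∃ y ∈ R, y ^ 5 = 1 ∧ y ≠ 1))
    {a : V6} {c : ZMod 3} (ha : a ≠ 0) (hc : c ≠ 0) (ht : tGL a c ∈ R) : spGL 3 (ZMod 3) ≤ R := by
  have hcard : Fintype.card (Fin 3 ⊕ Fin 3) = 6 := by simp
  have hmem : ∀ h : V6 ≃ₗ[ZMod 3] V6, h ∈ R.map toLE ↔ ∃ g ∈ R, toLE g = h := fun h => Iff.rfl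
  have key := all_tv (V := V6) (H := R.map toLE) (ω := sB 3 (ZMod 3)) ?_ ?_ ?_ ?_ ?_ ha ?_
  · apply spGL_le
    intro v d
    obtain ⟨_, ⟨g, hg, rfl⟩, hg2⟩ := key v
    have hgv : g = tGL v (-1) := by
      apply toLE_injective
      apply LinearEquiv.ext
      intro x
      rw [hg2, toLE_apply, tGL_mulVec, sB_apply, sympForm_swap v x, neg_one_mul]
    rw [hgv] at hg
    exact tGL_all hg (by decide) d
  · intro x
    rw [sB_apply, sympForm_self]
  · intro v hv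
    apply eq_zero_of_forall_sympForm_left (m := 3)
    intro w
    rw [sympForm_swap, ← sB_apply, hv w, neg_zero]
  · rw [Module.finrank_fintype_fun_eq_card, hcard]
    norm_num
  · rintro _ ⟨g, hg, rfl⟩ x y
    rw [sB_apply, sB_apply]
    exact mem_spGL_iff.1 (hR hg) x y
  · intro W hW
    rcases hdiv with ⟨x, hx, hx7, hx1⟩ | ⟨⟨x, hx, hx13, hx1⟩, y, hy, hy5, hy1⟩
    · exact sp6_irr_seven hx7 hx1 W fun v hv => hW _ ⟨x, hx, rfl⟩ 7 (by norm_num) (by norm_num) (by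
        rw [← map_pow, hx7, map_one]) v hv
    · exact sp6_irr_thirteen (hR hx) (hR hy) hx13 hx1 hy5 hy1 W (fun v hv => hW _ ⟨x, hx, rfl⟩ 13 (by norm_num)
        (by norm_num) (by rw [← map_pow, hx13, map_one]) v hv) (fun v hv => hW _ ⟨y, hy, rfl⟩ 5 (by norm_num)
        (by norm_num) (by rw [← map_pow, hy5, map_one]) v hv)
  · refine ⟨_, ⟨tGL a (-1), tGL_all ht hc (-1), rfl⟩, fun x => ?_⟩
    rw [toLE_apply, tGL_mulVec, sB_apply, sympForm_swap a x, neg_one_mul]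

end Cfsg.Agent.H901.Der
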