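import Cfsg.Agent.H901.Der.SpNtc
import Cfsg.Agent.H388.Der.BlkEx

/-!
# Three missing classes in `PSp_4k(q)` (helper901, for S3502)
-/

set_option autoImplicit false

namespace Cfsg.Agent.H901.Der

open Cfsg Cfsg.Geo Subgroup Cfsg.Agent.H439.Der Cfsg.Agent.H262.El Cfsg.Agent.H388.Der Cfsg.Agent.H343.Blk
open Cfsg.Agent.H876
open scoped MatrixGroups Matrix

/-- a missing element and two elements of its centralizer -/
theorem three_of_missing {T : Type*} [Group T] [Finite T] {R : Subgroup T} {x a b : T}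
    (hm : ∀ φ : T ≃* T, φ x ∉ R) (ha : Commute x a) (hb : Commute x b)
    (hca : (orderOf x).Coprime (orderOf a)) (hcb : (orderOf x).Coprime (orderOf b))
    (h1 : orderOf a ≠ 1) (h2 : orderOf b ≠ 1) (hab : orderOf a ≠ orderOf b) : Three T R := by
  have key : ∀ {a : T}, Commute x a → (orderOf x).Coprime (orderOf a) → ∀ φ : T ≃* T, φ (x * a) ∉ R := by
    intro a ha hca φ hφ
    obtain ⟨k, hk1, hk2⟩ := Nat.chineseRemainder hca 1 0
    apply hm φ
    have h3 : (x * a) ^ k = x := by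
      rw [ha.mul_pow]
      have h4 : x ^ k = x := by
        conv_rhs => rw [← pow_one x]
        exact pow_eq_pow_iff_modEq.2 hk1
      have h5 : a ^ k = 1 := by
        rw [← pow_zero a]
        exact pow_eq_pow_iff_modEq.2 hk2
      rw [h4, h5, mul_one]
    rw [← h3, map_pow]
    exact R.pow_mem hφ k
  have hoa : orderOf (x * a) = orderOf x * orderOf a := ha.orderOf_mul_eq_mul_orderOf_of_coprime hca
  have hob : orderOf (x * b) = orderOf x * orderOf b := hb.orderOf_mul_eq_mul_orderOf_of_coprime hcb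
  have hx := orderOf_pos x
  refine ⟨x, x * a, x * b, hm, key ha hca, key hb hcb, fun φ hφ => ?_, fun φ hφ => ?_, fun φ hφ => ?_⟩
  · have h3 : orderOf x = orderOf x * orderOf a := by rw [← hoa, ← hφ, MulEquiv.orderOf_eq]
    exact h1 (Nat.eq_of_mul_eq_mul_left hx (by omega))
  · have h3 : orderOf x = orderOf x * orderOf b := by rw [← hob, ← hφ, MulEquiv.orderOf_eq]
    exact h2 (Nat.eq_of_mul_eq_mul_left hx (by omega))
  · have h3 : orderOf x * orderOf a = orderOf x * orderOf b := by rw [← hob, ← hoa, ← hφ, MulEquiv.orderOf_eq]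
    exact hab (Nat.eq_of_mul_eq_mul_left hx h3)

variable {F : Type} [Field F] {m k : ℕ}

theorem orderOf_mk_fix [Finite F] {A : Matrix.symplecticGroup (Fin m) F} {v : Fin m ⊕ Fin m → F} (hv : v ≠ 0)
    (h : (A : Matrix (Fin m ⊕ Fin m) (Fin m ⊕ Fin m) F) *ᵥ v = v) :
    orderOf (QuotientGroup.mk A : PSp m F) = orderOf A := by
  apply Nat.dvd_antisymm (orderOf_map_dvd (QuotientGroup.mk' _) A)
  apply orderOf_dvd_of_pow_eq_one
  have h1 : A ^ orderOf (QuotientGroup.mk A : PSp m F) ∈ center (Matrix.symplecticGroup (Fin m) F) := by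
    rw [← QuotientGroup.eq_one_iff]
    show (QuotientGroup.mk A : PSp m F) ^ _ = 1
    exact pow_orderOf_eq_one _
  refine Subtype.ext (?_ : ((A ^ orderOf (QuotientGroup.mk A : PSp m F) : Matrix.symplecticGroup (Fin m) F) :
    Matrix (Fin m ⊕ Fin m) (Fin m ⊕ Fin m) F) = 1)
  have h2 := fix_pow h (orderOf (QuotientGroup.mk A : PSp m F))
  obtain ⟨c, hc⟩ := (LieClassical.SympCenter.mem_center_iff m _).1 h1
  rw [hc, Matrix.smul_mulVec, Matrix.one_mulVec] at h2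
  have h3 : (c - 1) • v = 0 := by rw [sub_smul, h2, one_smul, sub_self]
  rcases smul_eq_zero.1 h3 with h4 | h4
  · rw [hc, sub_eq_zero.1 h4, one_smul]
  · exact absurd h4 hv

/-- the first type: fixed vectors -/
theorem three_d₁ [Fintype F] (hk : 1 ≤ k) {r : ℕ} (hr : r.Prime) (hr5 : 5 ≤ r)
    {b : Matrix.symplecticGroup (Fin k) F} (hb : orderOf b = r) {R : Subgroup (PSp (k + k) F)}
    (hm : ∀ φ : PSp (k + k) F ≃* PSp (k + k) F, φ (QuotientGroup.mk (d₁ b)) ∉ R) : Three (PSp (k + k) F) R := by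
  have hfin : Finite (PSp (k + k) F) := Quotient.finite _
  have : Fact (Nat.Prime 2) := ⟨Nat.prime_two⟩
  have : Fact (Nat.Prime 3) := ⟨Nat.prime_three⟩
  obtain ⟨a, ha⟩ := exists_prime_orderOf_dvd_card' 2 (two_three (F := F) (k := k) hk (Or.inl rfl))
  obtain ⟨c, hc⟩ := exists_prime_orderOf_dvd_card' 3 (two_three (F := F) (k := k) hk (Or.inr rfl))
  have hx : orderOf (QuotientGroup.mk (d₁ b) : PSp (k + k) F) = r := by
    rw [Cfsg.Agent.H388.Der.orderOf_mk hr (by omega)]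
    rw [orderOf_d₁, hb]
  have hfix : ∀ a : Matrix.symplecticGroup (Fin k) F, ∃ v : Fin (k + k) ⊕ Fin (k + k) → F, v ≠ 0 ∧
      (spExt (e₂ k) e₂_inj a : Matrix (Fin (k + k) ⊕ Fin (k + k)) (Fin (k + k) ⊕ Fin (k + k)) F) *ᵥ v = v := by
    intro a
    let x : Fin (k + k) ⊕ Fin (k + k) := Sum.inl (e₁ k ⟨0, hk⟩)
    refine ⟨Pi.single x 1, ?_, ?_⟩
    · intro h
      have := congrFun h x
      simp at this
    · apply vec_ext
      · rw [x₂_fst]
      · rw [x₂_snd]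
        have h0 : (Pi.single x 1 : Fin (k + k) ⊕ Fin (k + k) → F) ∘ Sum.map (e₂ k) (e₂ k) = 0 := by
          ext i
          rw [Function.comp_apply, Pi.single_eq_of_ne, Pi.zero_apply]
          intro h
          exact se_ne (Sum.inl ⟨0, hk⟩) i h.symm
        rw [h0, Matrix.mulVec_zero]
  have hcomm : ∀ a : Matrix.symplecticGroup (Fin k) F, Commute (QuotientGroup.mk (d₁ b) : PSp (k + k) F)
      (QuotientGroup.mk (spExt (e₂ k) e₂_inj a)) := fun a =>
    (spExt_comm b a).map (QuotientGroup.mk' _)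
  have hoa : ∀ a : Matrix.symplecticGroup (Fin k) F,
      orderOf (QuotientGroup.mk (spExt (e₂ k) e₂_inj a) : PSp (k + k) F) = orderOf a := by
    intro a
    obtain ⟨v, hv, hv'⟩ := hfix a
    rw [orderOf_mk_fix hv hv', orderOf_injective _ (spExt_injective _ _)]
  refine three_of_missing (x := QuotientGroup.mk (d₁ b)) (a := QuotientGroup.mk (spExt (e₂ k) e₂_inj a))
    (b := QuotientGroup.mk (spExt (e₂ k) e₂_inj c)) hm (hcomm a) (hcomm c) ?_ ?_ ?_ ?_ ?_
  · rw [hx, hoa, ha]; exact (Nat.coprime_primes hr Nat.prime_two).2 (by omega)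
  · rw [hx, hoa, hc]; exact (Nat.coprime_primes hr Nat.prime_three).2 (by omega)
  · rw [hoa, ha]; norm_num
  · rw [hoa, hc]; norm_num
  · rw [hoa, hoa, ha, hc]; norm_num

/-- the second type: no fixed vectors -/
theorem sing_core [Fintype F] {A : Matrix.symplecticGroup (Fin m) F} (hR : Rig A) {r s t : ℕ} (hr : r.Prime)
    (hr2 : r ≠ 2) (hro : r ∣ orderOf A) (hs : s ∣ orderOf (QuotientGroup.mk A : PSp m F))
    (ht : t ∣ orderOf (QuotientGroup.mk A : PSp m F)) (hrs : r.Coprime s) (hrt : r.Coprime t) (hs1 : 1 < s)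
    (ht1 : 1 < t) (hst : s ≠ t) :
    ∃ y : Matrix.symplecticGroup (Fin m) F, orderOf y = r ∧
      (∀ v, (y : Matrix (Fin m ⊕ Fin m) (Fin m ⊕ Fin m) F) *ᵥ v = v → v = 0) ∧
      ∀ R : Subgroup (PSp m F), (∀ φ : PSp m F ≃* PSp m F, φ (QuotientGroup.mk y) ∉ R) → Three (PSp m F) R := by
  have hfin : Finite (PSp m F) := Quotient.finite _
  obtain ⟨n, hn⟩ := hro
  have hA0 : 0 < orderOf A := orderOf_pos A
  have hn0 : n ≠ 0 := by rintro rfl; omega
  have ho : orderOf (A ^ n) = r := by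
    rw [orderOf_pow' A hn0, hn, Nat.gcd_mul_left_left]
    exact Nat.mul_div_cancel _ (Nat.pos_of_ne_zero hn0)
  refine ⟨A ^ n, ho, fun v hv => ?_, fun R hm => ?_⟩
  · by_contra hv0
    have h1 := hR n 1 (Or.inl rfl) v hv0 (by rw [one_smul]; exact hv)
    obtain ⟨c, hc⟩ := (LieClassical.SympCenter.mem_center_iff m _).1 h1
    rw [hc, Matrix.smul_mulVec, Matrix.one_mulVec] at hv
    have h3 : (c - 1) • v = 0 := by rw [sub_smul, hv, one_smul, sub_self]
    rcases smul_eq_zero.1 h3 with h4 | h4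
    · have h5 : A ^ n = 1 := Subtype.ext (by rw [hc, sub_eq_zero.1 h4, one_smul]; rfl)
      rw [h5, orderOf_one] at ho
      exact hr.one_lt.ne ho
    · exact hv0 h4
  · obtain ⟨c, hc⟩ : ∃ c, c = orderOf (QuotientGroup.mk A : PSp m F) := ⟨_, rfl⟩
    have hc0 : 0 < c := by rw [hc]; exact orderOf_pos _
    rw [← hc] at hs ht
    have hpow : ∀ {s : ℕ}, s ∣ c → 1 < s → orderOf ((QuotientGroup.mk A : PSp m F) ^ (c / s)) = s := by
      intro s hs hs1
      obtain ⟨j, hj⟩ := hs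
      have hj0 : j ≠ 0 := by rintro rfl; omega
      rw [hj, Nat.mul_div_cancel_left _ (by omega), orderOf_pow' _ hj0, ← hc, hj, Nat.gcd_mul_left_left]
      exact Nat.mul_div_cancel _ (Nat.pos_of_ne_zero hj0)
    have hy : (QuotientGroup.mk (A ^ n) : PSp m F) = (QuotientGroup.mk A : PSp m F) ^ n := rfl
    have hx : orderOf (QuotientGroup.mk (A ^ n) : PSp m F) = r := Cfsg.Agent.H388.Der.orderOf_mk hr hr2 ho
    refine three_of_missing (x := QuotientGroup.mk (A ^ n)) (a := (QuotientGroup.mk A : PSp m F) ^ (c / s))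
      (b := (QuotientGroup.mk A : PSp m F) ^ (c / t)) hm ?_ ?_ ?_ ?_ ?_ ?_ ?_
    · rw [hy]; exact ((Commute.refl _).pow_left _).pow_right _
    · rw [hy]; exact ((Commute.refl _).pow_left _).pow_right _
    · rw [hx, hpow hs hs1]; exact hrs
    · rw [hx, hpow ht ht1]; exact hrt
    · rw [hpow hs hs1]; omega
    · rw [hpow ht ht1]; omega
    · rw [hpow hs hs1, hpow ht ht1]; exact hst

/-- one of the two types is missing -/
theorem missing_or [Finite F] (hm : 3 ≤ m) {r : ℕ} (hr : r.Prime) (hr2 : r ≠ 2)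
    {y₁ y₂ : Matrix.symplecticGroup (Fin m) F} (h1 : orderOf y₁ = r) (h2 : orderOf y₂ = r)
    (hf₁ : ∃ v : Fin m ⊕ Fin m → F, v ≠ 0 ∧ (y₁ : Matrix (Fin m ⊕ Fin m) (Fin m ⊕ Fin m) F) *ᵥ v = v)
    (hf₂ : ∀ v, (y₂ : Matrix (Fin m ⊕ Fin m) (Fin m ⊕ Fin m) F) *ᵥ v = v → v = 0)
    {R : Subgroup (PSp m F)}
    (hR : ∀ a b : R, orderOf a = r → orderOf b = r → ∃ (c : R) (j : ℤ), b = c * a ^ j * c⁻¹) :
    (∀ φ : PSp m F ≃* PSp m F, φ (QuotientGroup.mk y₁) ∉ R) ∨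
      ∀ φ : PSp m F ≃* PSp m F, φ (QuotientGroup.mk y₂) ∉ R := by
  classical
  have hro : Odd r := hr.eq_two_or_odd'.resolve_left hr2
  have hy₁ : y₁ ^ r = 1 := by rw [← h1]; exact pow_orderOf_eq_one y₁
  have hy₂ : y₂ ^ r = 1 := by rw [← h2]; exact pow_orderOf_eq_one y₂
  by_contra hcon
  push Not at hcon
  obtain ⟨⟨φ₁, hφ₁⟩, φ₂, hφ₂⟩ := hcon
  have ho : ∀ {y : Matrix.symplecticGroup (Fin m) F} {φ : PSp m F ≃* PSp m F}
      (hy : orderOf y = r) (hm : φ (QuotientGroup.mk y) ∈ R), orderOf (⟨φ (QuotientGroup.mk y), hm⟩ : R) = r := by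
    intro y φ hy hm
    rw [Subgroup.orderOf_mk, MulEquiv.orderOf_eq, Cfsg.Agent.H388.Der.orderOf_mk hr hr2 hy]
  obtain ⟨c, j, hc⟩ := hR ⟨_, hφ₁⟩ ⟨_, hφ₂⟩ (ho h1 hφ₁) (ho h2 hφ₂)
  have hc' : φ₂ (QuotientGroup.mk y₂) = (c : PSp m F) * (φ₁ (QuotientGroup.mk y₁)) ^ j * (c : PSp m F)⁻¹ :=
    congrArg Subtype.val hc
  obtain ⟨n, hn⟩ : ∃ n : ℕ, (φ₁ (QuotientGroup.mk y₁)) ^ j = (φ₁ (QuotientGroup.mk y₁)) ^ n := by
    have hfo : IsOfFinOrder (φ₁ (QuotientGroup.mk y₁)) := by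
      rw [← orderOf_pos_iff, MulEquiv.orderOf_eq, Cfsg.Agent.H388.Der.orderOf_mk hr hr2 h1]
      exact hr.pos
    have hmem : (φ₁ (QuotientGroup.mk y₁)) ^ j ∈ Subgroup.zpowers (φ₁ (QuotientGroup.mk y₁)) := ⟨j, rfl⟩
    rw [hfo.mem_zpowers_iff_mem_range_orderOf] at hmem
    obtain ⟨n, -, hn⟩ := Finset.mem_image.1 hmem
    exact ⟨n, hn.symm⟩
  rw [hn] at hc'
  have hψ : (((MulAut.conj (c : PSp m F)).symm.trans φ₁.symm : PSp m F ≃* PSp m F)) (φ₂ (QuotientGroup.mk y₂)) =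
      QuotientGroup.mk (y₁ ^ n) := by
    rw [hc', MulEquiv.trans_apply]
    have h3 : (MulAut.conj (c : PSp m F)).symm ((c : PSp m F) * (φ₁ (QuotientGroup.mk y₁)) ^ n * (c : PSp m F)⁻¹) =
        (φ₁ (QuotientGroup.mk y₁)) ^ n := by
      rw [MulEquiv.symm_apply_eq]
      rfl
    rw [h3, ← map_pow, MulEquiv.symm_apply_apply, QuotientGroup.mk_pow]
  obtain ⟨B, σ, hB⟩ := aut_odd hm hro (φ₂.trans ((MulAut.conj (c : PSp m F)).symm.trans φ₁.symm)) hy₂
    (C := y₁ ^ n) (by rw [← pow_mul, mul_comm, pow_mul, hy₁, one_pow]) hψ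
  obtain ⟨v, hv0, hv⟩ := hf₁
  apply hv0
  refine Cfsg.Agent.H81.SaxSp.fix_map (A := spToGL m F y₂) (B := B) (σ := σ) hf₂ v ?_
  rw [← hB]
  exact fix_pow hv n

/-- orthogonal subgroups of minus type miss the elements without fixed vectors -/
theorem missing_minus [Fintype F] {r : ℕ} (hm : 3 ≤ m) (hr : r.Prime) (hr2 : r ≠ 2)
    (hnum : ((Fintype.card F : ZMod r) ^ m + 1) * ((Fintype.card F : ZMod r) ^ (m - 1) - 1) ≠ 0)
    {y : Matrix.symplecticGroup (Fin m) F} (hy : orderOf y = r)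
    (hf : ∀ v, (y : Matrix (Fin m ⊕ Fin m) (Fin m ⊕ Fin m) F) *ᵥ v = v → v = 0)
    {R : Subgroup (PSp m F)} (hR : Cfsg.Agent.H901.SaxSp.InOMinus m F (pre R))
    (φ : PSp m F ≃* PSp m F) : φ (QuotientGroup.mk y) ∉ R := by
  intro hφ
  obtain ⟨-, -, Q, hpol, hQP, hle⟩ := hR
  have hro : Odd r := hr.eq_two_or_odd'.resolve_left hr2
  have hyr : y ^ r = 1 := by rw [← hy]; exact pow_orderOf_eq_one y
  obtain ⟨C, hC, hCr⟩ := exists_lift (F := F) (m := m) hro (x := φ (QuotientGroup.mk y)) (by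
    rw [← map_pow, ← QuotientGroup.mk_pow, hyr, QuotientGroup.mk_one, map_one])
  obtain ⟨B, σ, hB⟩ := aut_odd hm hro φ hyr hCr hC.symm
  have hCf : ∀ v, ((spToGL m F C : GL (Fin m ⊕ Fin m) F) :
      Matrix (Fin m ⊕ Fin m) (Fin m ⊕ Fin m) F) *ᵥ v = v → v = 0 := by
    rw [hB]
    exact Cfsg.Agent.H81.SaxSp.fix_map (A := spToGL m F y) (B := B) (σ := σ) hf
  rw [← hC, ← mem_pre] at hφ
  have hsim : spToGL m F C ∈ quadSimilarityGroup (⇑Q) := by
    refine ⟨1, fun v => ?_⟩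
    rw [Units.val_one, one_mul]
    exact (Cfsg.Agent.ClassicalGeometry.Reflection.mem_isometryGroup_iff _ _).1 (hle hφ) v
  have hι : Fintype.card (Fin m ⊕ Fin m) = 2 * m := by
    rw [Fintype.card_sum, Fintype.card_fin, two_mul]
  rcases quad_dichotomy (m := m) (by omega) hι hr
    (Cfsg.Agent.H883.Bridge.isNondegenerateQuadraticForm (nondeg_symp hpol)) hsim
    (by rw [← map_pow, hCr, map_one]) hCf with ⟨⟨Q', hQ', hP⟩, -⟩ | ⟨-, h⟩
  · have : Q' = Q := DFunLike.coe_injective hQ'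
    rw [this] at hP
    exact hQP hP
  · exact hnum h

end Cfsg.Agent.H901.Der
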