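import Cfsg.Agent.H901.Der.SpSemi
import Cfsg.Agent.H262.ElFix
import Cfsg.Agent.H999.FxPSp
import Cfsg.Agent.Lib.FieldAutCard

/-!
# Tori of `Sp_2m(q)` and `NTC` (helper901, for S3502 / S3500)

* `tor_minus` : an element of order `q ^ m + 1`, `Rig`
* `tor_plus` : an element of order `q ^ m - 1`, `Rig`
* `not_scc_tor` : `¬ SCC (PSp m F) v` for `v ≥ 7` dividing the order of such an element
* `not_scc_block` : the primes dividing `|Sp_2k(q)|`, `k < m`
* `ntc` : `NTC (PSp m F)`, `m ≥ 3`, `(m, q) ≠ (3, 2), (3, 3), (4, 2)`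
-/

set_option autoImplicit false

namespace Cfsg.Agent.H901.Der

open Cfsg Subgroup Cfsg.Agent.H439.Der Cfsg.Agent.H262.El
open scoped MatrixGroups Matrix

variable {F : Type} [Field F] {m : ℕ}

/-- `Sp_2m(q) → GL_2m(q)` -/
def gl (m : ℕ) (F : Type) [Field F] : Matrix.symplecticGroup (Fin m) F →* GL (Fin m ⊕ Fin m) F :=
  MonoidHom.toHomUnits (Matrix.symplecticGroup (Fin m) F).subtype

theorem coe_gl (A : Matrix.symplecticGroup (Fin m) F) :
    ((gl m F A : GL (Fin m ⊕ Fin m) F) : Matrix (Fin m ⊕ Fin m) (Fin m ⊕ Fin m) F) = A.1 := rfl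

theorem gl_injective : Function.Injective (gl m F) := fun A B h =>
  Subtype.ext (congrArg (fun g : GL (Fin m ⊕ Fin m) F => (g : Matrix (Fin m ⊕ Fin m) (Fin m ⊕ Fin m) F)) h)

theorem rig_of_irr {A y : Matrix.symplecticGroup (Fin m) F} (hc : Commute y A)
    (hirr : ∀ W : Submodule F (Fin m ⊕ Fin m → F),
      (∀ w ∈ W, (y : Matrix (Fin m ⊕ Fin m) (Fin m ⊕ Fin m) F) *ᵥ w ∈ W) → W = ⊥ ∨ W = ⊤) : Rig A := by
  intro k c _ v hv h
  let W : Submodule F (Fin m ⊕ Fin m → F) := LinearMap.ker (Matrix.mulVecLin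
    ((A ^ k : Matrix.symplecticGroup (Fin m) F) : Matrix (Fin m ⊕ Fin m) (Fin m ⊕ Fin m) F) - c • 1)
  have hW : ∀ w, w ∈ W ↔ ((A ^ k : Matrix.symplecticGroup (Fin m) F) :
      Matrix (Fin m ⊕ Fin m) (Fin m ⊕ Fin m) F) *ᵥ w = c • w := by
    intro w
    rw [LinearMap.mem_ker, LinearMap.sub_apply, sub_eq_zero]
    rfl
  have hcomm : (y : Matrix (Fin m ⊕ Fin m) (Fin m ⊕ Fin m) F) *
      ((A ^ k : Matrix.symplecticGroup (Fin m) F) : Matrix (Fin m ⊕ Fin m) (Fin m ⊕ Fin m) F) =
      ((A ^ k : Matrix.symplecticGroup (Fin m) F) : Matrix (Fin m ⊕ Fin m) (Fin m ⊕ Fin m) F) * y :=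
    congrArg Subtype.val (hc.pow_right k).eq
  rcases hirr W (fun w hw => by
    rw [hW] at hw ⊢
    rw [Matrix.mulVec_mulVec, ← hcomm, ← Matrix.mulVec_mulVec, hw, Matrix.mulVec_smul]) with h1 | h1
  · exfalso
    apply hv
    have h2 : v ∈ W := (hW v).2 h
    rwa [h1, Submodule.mem_bot] at h2
  · rw [LieClassical.SympCenter.mem_center_iff]
    refine ⟨c, ?_⟩
    apply Matrix.ext_of_mulVec_single
    intro i
    rw [(hW _).1 (h1 ▸ Submodule.mem_top), Matrix.smul_mulVec, Matrix.one_mulVec]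

/-- the torus of order `q ^ m + 1` -/
theorem tor_minus [Fintype F] (hm : m ≠ 0) {r : ℕ} (hr : Od (Fintype.card F) (2 * m) r) :
    ∃ A : Matrix.symplecticGroup (Fin m) F, orderOf A = Fintype.card F ^ m + 1 ∧ Rig A := by
  obtain ⟨A, hA⟩ := H376.SpEmb.exists_plus F m hm
  rw [Nat.card_eq_fintype_card] at hA
  have hq1 : 1 ≤ Fintype.card F := Fintype.card_pos
  have hrd : r ∣ Fintype.card F ^ m + 1 := by
    have h1 : r ∣ Fintype.card F ^ (2 * m) - 1 := (hr.dvd_iff hq1 _).2 dvd_rfl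
    have h2 : ¬ r ∣ Fintype.card F ^ m - 1 := by
      rw [hr.dvd_iff hq1]
      intro h
      have := Nat.le_of_dvd (Nat.pos_of_ne_zero hm) h
      omega
    have h3 : Fintype.card F ^ (2 * m) - 1 = (Fintype.card F ^ m + 1) * (Fintype.card F ^ m - 1) := by
      rw [mul_comm 2 m, pow_mul]
      have := Nat.sq_sub_sq (Fintype.card F ^ m) 1
      simpa using this
    rw [h3] at h1
    exact (hr.prime.dvd_mul.1 h1).resolve_right h2
  refine ⟨A, hA, ?_⟩
  obtain ⟨k, hk⟩ := hrd
  have hk0 : k ≠ 0 := by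
    rintro rfl
    omega
  have ho : orderOf (A ^ k) = r := by
    rw [orderOf_pow' A hk0, hA, hk, Nat.gcd_mul_left_left]
    exact Nat.mul_div_cancel _ (Nat.pos_of_ne_zero hk0)
  refine rig_of_irr (y := A ^ k) ((Commute.refl A).pow_left k) ?_
  have hι : Fintype.card (Fin m ⊕ Fin m) = 2 * m := by
    rw [Fintype.card_sum, Fintype.card_fin]; omega
  intro W hW
  refine irr_of_od (x := gl m F (A ^ k)) (by rw [hι]; exact hr) ?_ ?_ W hW
  · rw [← map_pow, ← ho, pow_orderOf_eq_one, map_one]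
  · intro h
    have h1 : A ^ k = 1 := gl_injective (by rw [h, map_one])
    rw [h1, orderOf_one] at ho
    exact hr.prime.one_lt.ne ho

/-- the torus of order `q ^ m - 1` -/
theorem tor_plus [Fintype F] (hm : m ≠ 0) :
    ∃ A : Matrix.symplecticGroup (Fin m) F, orderOf A = Fintype.card F ^ m - 1 ∧ Rig A := by
  classical
  have : NeZero m := ⟨hm⟩
  obtain ⟨p, hp⟩ := CharP.exists F
  have : Fact p.Prime := ⟨CharP.char_is_prime F p⟩
  let K := FiniteField.Extension F p m
  let b : Module.Basis (Fin m) F K := Module.finBasisOfFinrankEq F K (FiniteField.finrank_extension F p m)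
  have hK : Nat.card K = Nat.card F ^ m := FiniteField.natCard_extension F p m
  have hKf : Finite K := by
    apply Nat.finite_of_card_ne_zero
    rw [hK]
    exact pow_ne_zero _ Nat.card_pos.ne'
  let f : Kˣ →* GL (Fin m) F := Units.map (Algebra.leftMulMatrix b : K →ₐ[F] Matrix (Fin m) (Fin m) F).toMonoidHom
  have hf : ∀ u : Kˣ, ((f u : GL (Fin m) F) : Matrix (Fin m) (Fin m) F) = Algebra.leftMulMatrix b (u : K) := fun _ => rfl
  have hfi : Function.Injective f := by
    intro u w h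
    apply Units.ext
    apply Algebra.leftMulMatrix_injective b
    rw [← hf, ← hf, h]
  obtain ⟨ω, hω⟩ := IsCyclic.exists_generator (α := Kˣ)
  have hoω : orderOf ω = Fintype.card F ^ m - 1 := by
    rw [orderOf_eq_card_of_forall_mem_zpowers hω, Nat.card_units, hK, Nat.card_eq_fintype_card]
  refine ⟨H376.SpEmb.levi _ (f ω), ?_, ?_⟩
  · rw [orderOf_injective _ (H376.SpEmb.levi_injective _), orderOf_injective _ hfi, hoω]
  · intro k c hc v hv h
    have hA : ((H376.SpEmb.levi (F := F) (Fin m) (f ω)) ^ k) = H376.SpEmb.levi _ (f (ω ^ k)) := by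
      rw [map_pow, map_pow]
    rw [hA] at h ⊢
    have hM : ((H376.SpEmb.levi (F := F) (Fin m) (f (ω ^ k)) : Matrix.symplecticGroup (Fin m) F) :
        Matrix (Fin m ⊕ Fin m) (Fin m ⊕ Fin m) F) =
        Matrix.fromBlocks (Algebra.leftMulMatrix b ((ω ^ k : Kˣ) : K)) 0 0
          (Algebra.leftMulMatrix b (((ω ^ k)⁻¹ : Kˣ) : K))ᵀ := by
      show Matrix.fromBlocks (f (ω ^ k)).1 0 0 ((f (ω ^ k))⁻¹).1ᵀ = _
      rw [← map_inv]
      rfl
    have hcc : c * c = 1 := by rcases hc with rfl | rfl <;> ring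
    -- a matrix of `K` with an eigenvalue in `F` is scalar
    have key : ∀ (a : K) (c : F) (x : Fin m → F), x ≠ 0 → (Algebra.leftMulMatrix b a) *ᵥ x = c • x →
        a = algebraMap F K c := by
      intro a c x hx hax
      by_contra hne
      have h1 : a - algebraMap F K c ≠ 0 := sub_ne_zero.2 hne
      have h2 : Algebra.leftMulMatrix b (a - algebraMap F K c)⁻¹ *ᵥ
          (Algebra.leftMulMatrix b (a - algebraMap F K c) *ᵥ x) = x := by
        rw [Matrix.mulVec_mulVec, ← map_mul, inv_mul_cancel₀ h1, map_one, Matrix.one_mulVec]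
      apply hx
      rw [← h2, map_sub, Matrix.sub_mulVec, hax, AlgHom.commutes]
      rw [Matrix.algebraMap_eq_diagonal]
      have h3 : Matrix.diagonal (algebraMap F (Fin m → F) c) *ᵥ x = c • x := by
        ext i
        rw [Matrix.mulVec_diagonal]
        rfl
      rw [h3, sub_self, Matrix.mulVec_zero]
    have hωk : ((ω ^ k : Kˣ) : K) = algebraMap F K c := by
      rw [hM] at h
      obtain ⟨x, y, rfl⟩ : ∃ x y : Fin m → F, v = Sum.elim x y :=
        ⟨v ∘ Sum.inl, v ∘ Sum.inr, (Sum.elim_comp_inl_inr v).symm⟩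
      rw [Matrix.fromBlocks_mulVec] at h
      simp only [Sum.elim_comp_inl, Sum.elim_comp_inr, Matrix.zero_mulVec, add_zero, zero_add] at h
      have hx : Algebra.leftMulMatrix b ((ω ^ k : Kˣ) : K) *ᵥ x = c • x := by
        ext i
        exact congrFun h (Sum.inl i)
      have hy : (Algebra.leftMulMatrix b (((ω ^ k)⁻¹ : Kˣ) : K))ᵀ *ᵥ y = c • y := by
        ext i
        exact congrFun h (Sum.inr i)
      by_cases hx0 : x = 0
      · have hy0 : y ≠ 0 := by
          rintro rfl
          apply hv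
          rw [hx0]
          ext i
          rcases i with i | i <;> rfl
        -- transpose
        have h4 : ((Algebra.leftMulMatrix b (((ω ^ k)⁻¹ : Kˣ) : K)) - Matrix.scalar (Fin m) c)ᵀ.det = 0 := by
          rw [← Matrix.exists_mulVec_eq_zero_iff]
          refine ⟨y, hy0, ?_⟩
          rw [Matrix.transpose_sub, Matrix.sub_mulVec, hy, sub_eq_zero]
          ext a
          simp [Matrix.scalar, Matrix.mulVec_diagonal]
        rw [Matrix.det_transpose, ← Matrix.exists_mulVec_eq_zero_iff] at h4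
        obtain ⟨x', hx', hx2⟩ := h4
        have h5 := key (((ω ^ k)⁻¹ : Kˣ) : K) c x' hx' (by
          rw [Matrix.sub_mulVec, sub_eq_zero] at hx2
          rw [hx2]
          ext a
          simp [Matrix.scalar, Matrix.mulVec_diagonal])
        rw [Units.val_inv_eq_inv_val] at h5
        rw [← inv_inv ((ω ^ k : Kˣ) : K), h5, ← map_inv₀]
        congr 1
        exact inv_eq_of_mul_eq_one_left hcc
      · exact key _ c x hx0 hx
    rw [LieClassical.SympCenter.mem_center_iff]
    refine ⟨c, ?_⟩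
    rw [hM, hωk, Units.val_inv_eq_inv_val, hωk, ← map_inv₀, inv_eq_of_mul_eq_one_left hcc, AlgHom.commutes]
    rw [Matrix.algebraMap_eq_diagonal, Matrix.diagonal_transpose]
    ext i j
    rcases i with i | i <;> rcases j with j | j <;>
      simp [Matrix.diagonal_apply, Matrix.one_apply]

end Cfsg.Agent.H901.Der
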