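import Cfsg.Agent.H743.TvFinal
import Cfsg.Agent.H262.ElFix
import Cfsg.Agent.Lib.Cores

/-!
# Irreducible groups of isometries of a 6-dimensional symplectic space over `F₃` with a transvection (S3502)

If such a group has elements of prime order `≥ 5` under which only `0` and `V` are invariant, it contains all symplectic
transvections (`all_tv`).
-/

set_option autoImplicit false
set_option linter.unusedVariables false
set_option linter.unusedSimpArgs false
set_option linter.unusedSectionVars false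

namespace Cfsg.Agent.H901.Der

open Module Subgroup Cfsg.Agent.H743.McL

section conj

variable {K V : Type*} [Field K] [AddCommGroup V] [Module K V] {H D : Subgroup (V ≃ₗ[K] V)}

/-- the subgroup generated by the transvections in `H` -/
def tvGen (H : Subgroup (V ≃ₗ[K] V)) : Subgroup (V ≃ₗ[K] V) :=
  Subgroup.closure {t | t ∈ H ∧ ∃ x φ, (φ : Dual K V) x = 0 ∧ ∀ y, t y = y + φ y • x}

theorem tvGen_le : tvGen H ≤ H := (Subgroup.closure_le _).2 fun _ h => h.1

theorem gen_tvGen : Gen (tvGen H) := by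
  apply le_antisymm
  · refine (Subgroup.closure_le _).2 fun t ht => Subgroup.subset_closure ⟨Subgroup.subset_closure ht, ht.2⟩
  · exact (Subgroup.closure_le _).2 fun t ht => ht.1

theorem tv_tvGen {a : V} {φ : Dual K V} (h : Tv H a φ) : Tv (tvGen H) a φ := by
  obtain ⟨h1, t, ht, h2⟩ := h
  exact ⟨h1, t, Subgroup.subset_closure ⟨ht, a, φ, h1, h2⟩, h2⟩

theorem tv_conj_mem {a : V} {φ : Dual K V} (h : Tv (tvGen H) a φ) {g : V ≃ₗ[K] V} (hg : g ∈ H) :
    Tv (tvGen H) (g a) (φ.comp (g.symm : V →ₗ[K] V)) := by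
  obtain ⟨h1, t, ht, h2⟩ := h
  refine tv_tvGen ⟨by simp [h1], g * t * g⁻¹, H.mul_mem (H.mul_mem hg (tvGen_le ht)) (H.inv_mem hg), fun x => ?_⟩
  have e : (g * t * g⁻¹ : V ≃ₗ[K] V) x = g (t (g.symm x)) := rfl
  rw [e, h2, map_add, map_smul, LinearEquiv.apply_symm_apply]
  rfl

theorem rel_conj {a b : V} (h : Rel (tvGen H) a b) {g : V ≃ₗ[K] V} (hg : g ∈ H) : Rel (tvGen H) (g a) (g b) := by
  obtain ⟨φ, ψ, h1, h2, h3, h4⟩ := h
  exact ⟨_, _, tv_conj_mem h1 hg, tv_conj_mem h2 hg, by simpa using h3, by simpa using h4⟩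

theorem cmp_conj {a b : V} (h : Cmp (tvGen H) a b) {g : V ≃ₗ[K] V} (hg : g ∈ H) : Cmp (tvGen H) (g a) (g b) := by
  induction h with
  | refl => exact Cmp.refl _
  | tail _ h2 ih => exact ih.trans (rel_conj h2 hg).cmp

theorem ctr_conj {a : V} (h : Ctr (tvGen H) a) {g : V ≃ₗ[K] V} (hg : g ∈ H) : Ctr (tvGen H) (g a) := by
  obtain ⟨b, hb⟩ := h
  exact ⟨g b, rel_conj hb hg⟩

/-- `g` of prime order `ℓ`: either `a` and `g a` are in the same component, or the `g ^ i a`, `i < ℓ`, lie in pairwise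
different ones -/
theorem cmp_pow {a : V} {g : V ≃ₗ[K] V} (hg : g ∈ H) {l : ℕ} (hl : l.Prime) (hgl : g ^ l = 1)
    (h : ¬ Cmp (tvGen H) a (g a)) {i j : ℕ} (hi : i < l) (hj : j < l) (hij : i ≠ j) :
    ¬ Cmp (tvGen H) ((g ^ i) a) ((g ^ j) a) := by
  -- integers `k` with `a ~ g ^ k a` form a subgroup
  have hz : ∀ k : ℤ, g ^ k ∈ H := fun k => H.zpow_mem hg k
  have hC : ∀ {k m : ℤ}, Cmp (tvGen H) ((g ^ k) a) ((g ^ m) a) → ∀ n : ℤ,
      Cmp (tvGen H) ((g ^ (n + k)) a) ((g ^ (n + m)) a) := by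
    intro k m hk n
    have := cmp_conj hk (hz n)
    rwa [show (g ^ n) ((g ^ k) a) = (g ^ (n + k)) a by rw [zpow_add]; rfl,
      show (g ^ n) ((g ^ m) a) = (g ^ (n + m)) a by rw [zpow_add]; rfl] at this
  let S : AddSubgroup ℤ :=
    { carrier := {k | Cmp (tvGen H) ((g ^ (0 : ℤ)) a) ((g ^ k) a)}
      zero_mem' := Cmp.refl _
      add_mem' := by
        intro k m hk hm
        have := hC hm k
        rw [add_zero] at this
        exact Cmp.trans hk this
      neg_mem' := by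
        intro k hk
        have := hC hk (-k)
        rw [add_zero, neg_add_cancel] at this
        exact this.symm }
  have hS : ∀ k : ℤ, k ∈ S ↔ Cmp (tvGen H) ((g ^ (0 : ℤ)) a) ((g ^ k) a) := fun k => Iff.rfl
  intro hcon
  apply h
  have h1 : ((j : ℤ) - i) ∈ S := by
    rw [hS]
    have := hC (k := i) (m := j) (by rw [zpow_natCast, zpow_natCast]; exact hcon) (-i)
    rwa [neg_add_cancel, show -(i : ℤ) + j = j - i by ring] at this
  have h2 : (l : ℤ) ∈ S := by
    rw [hS, zpow_natCast, hgl, zpow_zero]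
    exact Cmp.refl _
  have h3 : IsCoprime (l : ℤ) ((j : ℤ) - i) := by
    rw [(Nat.prime_iff_prime_int.1 hl).irreducible.coprime_iff_not_dvd]
    intro hd
    have h5 := Int.eq_zero_of_abs_lt_dvd hd (by rw [abs_lt]; constructor <;> omega)
    omega
  obtain ⟨u, v, huv⟩ := h3
  have h4 : (1 : ℤ) ∈ S := by
    rw [← huv]
    exact S.add_mem (by simpa using S.zsmul_mem h2 u) (by simpa using S.zsmul_mem h1 v)
  rw [hS, zpow_zero, zpow_one] at h4
  exact h4

end conj

section iso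

variable {K V : Type*} [Field K] [AddCommGroup V] [Module K V] {H : Subgroup (V ≃ₗ[K] V)}
  {ω : LinearMap.BilinForm K V}

/-- a transvection preserving the symplectic form `ω` has the functional `c ω(a, ·)` -/
theorem phi_eq (halt : ω.IsAlt) (hnd : ∀ v, (∀ w, ω v w = 0) → v = 0) {a : V} (ha : a ≠ 0) {φ : Dual K V}
    (h : ∀ x y, ω (x + φ x • a) (y + φ y • a) = ω x y) : ∃ c : K, ∀ x, φ x = c * ω a x := by
  have h1 : ∀ x y, φ y * ω x a = φ x * ω y a := by
    intro x y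
    have h2 := h x y
    simp only [map_add, map_smul, LinearMap.add_apply, LinearMap.smul_apply, smul_eq_mul, halt a] at h2
    have h3 : ω a y = - ω y a := by rw [← halt.neg_eq]
    rw [h3] at h2
    linear_combination h2
  obtain ⟨y, hy⟩ : ∃ y, ω a y ≠ 0 := by
    by_contra hcon
    push Not at hcon
    exact ha (hnd a hcon)
  refine ⟨φ y / ω a y, fun x => ?_⟩
  have h4 := h1 x y
  rw [← halt.neg_eq a x, ← halt.neg_eq a y] at h4
  field_simp
  linear_combination h4

theorem tv_form (halt : ω.IsAlt) (hnd : ∀ v, (∀ w, ω v w = 0) → v = 0) (hH : ∀ h ∈ H, ∀ x y, ω (h x) (h y) = ω x y)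
    {a : V} (ha : a ≠ 0) {φ : Dual K V} (h : Tv H a φ) : ∃ c : K, ∀ x, φ x = c * ω a x := by
  obtain ⟨h1, t, ht, h2⟩ := h
  refine phi_eq halt hnd ha fun x y => ?_
  rw [← h2, ← h2]
  exact hH t ht x y

theorem rel_form (halt : ω.IsAlt) (hnd : ∀ v, (∀ w, ω v w = 0) → v = 0) (hH : ∀ h ∈ H, ∀ x y, ω (h x) (h y) = ω x y)
    {a b : V} (h : Rel H a b) : ω a b ≠ 0 := by
  obtain ⟨φ, ψ, h1, h2, h3, h4⟩ := h
  have ha : a ≠ 0 := by
    rintro rfl
    exact h4 (map_zero ψ)
  obtain ⟨c, hc⟩ := tv_form halt hnd hH ha h1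
  intro h0
  rw [hc, h0, mul_zero] at h3
  exact h3 rfl

/-- centres in different components are orthogonal -/
theorem orth_of_not_cmp (halt : ω.IsAlt) (hnd : ∀ v, (∀ w, ω v w = 0) → v = 0)
    (hH : ∀ h ∈ H, ∀ x y, ω (h x) (h y) = ω x y) {a b : V} (ha : Ctr H a) (hb : Ctr H b) (h : ¬ Cmp H a b) :
    ω a b = 0 := by
  by_contra h0
  apply h
  apply Rel.cmp
  obtain ⟨a', φ, -, h1, -, h3, -⟩ := id ha
  obtain ⟨b', ψ, -, h2, -, h4, -⟩ := id hb
  obtain ⟨c, hc⟩ := tv_form halt hnd hH ha.ne_zero h1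
  obtain ⟨d, hd⟩ := tv_form halt hnd hH hb.ne_zero h2
  refine ⟨φ, ψ, h1, h2, ?_, ?_⟩
  · rw [hc]
    refine mul_ne_zero (fun e => h3 ?_) h0
    rw [hc, e, zero_mul]
  · rw [hd]
    refine mul_ne_zero (fun e => h4 ?_) (fun e => h0 ?_)
    · rw [hd, e, zero_mul]
    · rw [← halt.neg_eq, e, neg_zero]

variable [FiniteDimensional K V]

/-- an element of prime order `l` with `2 * l > dim V` fixes all components -/
theorem cmp_self (halt : ω.IsAlt) (hnd : ∀ v, (∀ w, ω v w = 0) → v = 0)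
    (hH : ∀ h ∈ H, ∀ x y, ω (h x) (h y) = ω x y) {l : ℕ} (hl : l.Prime) (hd : finrank K V < 2 * l)
    {g : V ≃ₗ[K] V} (hg : g ∈ H) (hgl : g ^ l = 1) {a : V} (ha : Ctr (tvGen H) a) : Cmp (tvGen H) a (g a) := by
  by_contra hcon
  have hH' : ∀ h ∈ tvGen H, ∀ x y, ω (h x) (h y) = ω x y := fun h hh => hH h (tvGen_le hh)
  obtain ⟨b, hb⟩ := id ha
  have hab := rel_form halt hnd hH' hb
  have hgi : ∀ i : ℕ, g ^ i ∈ H := fun i => H.pow_mem hg i
  have hbi : ∀ i : ℕ, Ctr (tvGen H) ((g ^ i) b) := fun i => ctr_conj ⟨a, hb.symm⟩ (hgi i)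
  have hai : ∀ i : ℕ, Ctr (tvGen H) ((g ^ i) a) := fun i => ctr_conj ha (hgi i)
  have hri : ∀ i : ℕ, Cmp (tvGen H) ((g ^ i) a) ((g ^ i) b) := fun i => (rel_conj hb (hgi i)).cmp
  have hn : ∀ i j : Fin l, i ≠ j → ¬ Cmp (tvGen H) ((g ^ (i : ℕ)) a) ((g ^ (j : ℕ)) a) := fun i j hij =>
    cmp_pow hg hl hgl hcon i.2 j.2 (fun e => hij (Fin.ext e))
  have hab0 : ∀ i j : Fin l, i ≠ j → ω ((g ^ (i : ℕ)) a) ((g ^ (j : ℕ)) b) = 0 := fun i j hij =>
    orth_of_not_cmp halt hnd hH' (hai i) (hbi j) fun h => hn i j hij (h.trans (hri j).symm)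
  have hba0 : ∀ i j : Fin l, i ≠ j → ω ((g ^ (i : ℕ)) b) ((g ^ (j : ℕ)) a) = 0 := fun i j hij =>
    orth_of_not_cmp halt hnd hH' (hbi i) (hai j) fun h => hn i j hij ((hri i).trans h)
  have haa0 : ∀ i j : Fin l, ω ((g ^ (i : ℕ)) a) ((g ^ (j : ℕ)) a) = 0 := fun i j => by
    by_cases hij : i = j
    · rw [hij]; exact halt _
    · exact orth_of_not_cmp halt hnd hH' (hai i) (hai j) (hn i j hij)
  have hbb0 : ∀ i j : Fin l, ω ((g ^ (i : ℕ)) b) ((g ^ (j : ℕ)) b) = 0 := fun i j => by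
    by_cases hij : i = j
    · rw [hij]; exact halt _
    · exact orth_of_not_cmp halt hnd hH' (hbi i) (hbi j) fun h => hn i j hij
        ((hri i).trans (h.trans (hri j).symm))
  have hgab : ∀ i : ℕ, ω ((g ^ i) a) ((g ^ i) b) = ω a b := fun i => hH _ (hgi i) a b
  have hind : LinearIndependent K (Sum.elim (fun i : Fin l => (g ^ (i : ℕ)) a) (fun i : Fin l => (g ^ (i : ℕ)) b)) := by
    rw [Fintype.linearIndependent_iff]
    intro c hc
    rw [Fintype.sum_sum_type] at hc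
    simp only [Sum.elim_inl, Sum.elim_inr] at hc
    have h1 : ∀ j : Fin l, c (Sum.inl j) = 0 := by
      intro j
      have h2 := congrArg (fun v => ω v ((g ^ (j : ℕ)) b)) hc
      simp only [map_add, map_sum, map_smul, LinearMap.add_apply, LinearMap.coe_sum, Finset.sum_apply,
        LinearMap.smul_apply, smul_eq_mul, map_zero, LinearMap.zero_apply, hbb0, mul_zero, Finset.sum_const_zero,
        add_zero] at h2
      rw [Finset.sum_eq_single j (fun i _ hij => by rw [hab0 i j hij, mul_zero]) (fun h => absurd (Finset.mem_univ j) h),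
        hgab] at h2
      exact (mul_eq_zero.1 h2).resolve_right hab
    have h1' : ∀ j : Fin l, c (Sum.inr j) = 0 := by
      intro j
      have h2 := congrArg (fun v => ω v ((g ^ (j : ℕ)) a)) hc
      simp only [map_add, map_sum, map_smul, LinearMap.add_apply, LinearMap.coe_sum, Finset.sum_apply,
        LinearMap.smul_apply, smul_eq_mul, map_zero, LinearMap.zero_apply, haa0, mul_zero, Finset.sum_const_zero,
        zero_add] at h2
      rw [Finset.sum_eq_single j (fun i _ hij => by rw [hba0 i j hij, mul_zero]) (fun h => absurd (Finset.mem_univ j) h),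
        ← halt.neg_eq, hgab] at h2
      exact (mul_eq_zero.1 h2).resolve_right (neg_ne_zero.2 hab)
    rintro (j | j)
    · exact h1 j
    · exact h1' j
  have h3 := hind.fintype_card_le_finrank
  rw [Fintype.card_sum, Fintype.card_fin] at h3
  omega

end iso

section main

variable {V : Type*} [AddCommGroup V] [Module (ZMod 3) V] [Finite V] {H : Subgroup (V ≃ₗ[ZMod 3] V)}
  {ω : LinearMap.BilinForm (ZMod 3) V}

/-- normalisers of `D` normalise its `p`-core -/
theorem core_conj {G : Type*} [Group G] (p : ℕ) {D H : Subgroup G}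
    (hD : ∀ h ∈ H, D.map (MulAut.conj h).toMonoidHom = D) {h : G} (hh : h ∈ H) :
    ((Cfsg.pCore p D).map D.subtype).map (MulAut.conj h).toMonoidHom = (Cfsg.pCore p D).map D.subtype := by
  have h1 := Cfsg.Agent.Lib.Cores.map_equiv_pCore (D.equivMapOfInjective (MulAut.conj h).toMonoidHom
    (MulAut.conj h).injective) p
  have h2 : (Cfsg.pCore p ↥(D.map (MulAut.conj h).toMonoidHom)).map (D.map (MulAut.conj h).toMonoidHom).subtype =
      ((Cfsg.pCore p ↥D).map D.subtype).map (MulAut.conj h).toMonoidHom := by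
    rw [← h1, Subgroup.map_map, Subgroup.map_map]
    congr 1
  rw [← h2]
  congr 1 <;> rw [hD h hh]

theorem tvGen_map {K V : Type*} [Field K] [AddCommGroup V] [Module K V] {H : Subgroup (V ≃ₗ[K] V)}
    {h : V ≃ₗ[K] V} (hh : h ∈ H) : (tvGen H).map (MulAut.conj h).toMonoidHom = tvGen H := by
  have key : ∀ h ∈ H, (tvGen H).map (MulAut.conj h).toMonoidHom ≤ tvGen H := by
    intro h hh
    rw [tvGen, MonoidHom.map_closure, Subgroup.closure_le]
    rintro _ ⟨t, ⟨ht, x, φ, h1, h2⟩, rfl⟩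
    refine Subgroup.subset_closure ⟨H.mul_mem (H.mul_mem hh ht) (H.inv_mem hh), h x, φ.comp (h.symm : V →ₗ[K] V),
      by simp [h1], fun y => ?_⟩
    have e : ((MulAut.conj h).toMonoidHom t : V ≃ₗ[K] V) y = h (t (h.symm y)) := rfl
    rw [e, h2, map_add, map_smul, LinearEquiv.apply_symm_apply]
    rfl
  apply le_antisymm (key h hh)
  intro t ht
  refine ⟨h⁻¹ * t * h, ?_, by simp [mul_assoc]⟩
  have := key h⁻¹ (H.inv_mem hh) ⟨t, ht, rfl⟩
  simpa using this

theorem pCore_tvGen (hirr : ∀ W : Submodule (ZMod 3) V, (∀ h ∈ H, ∀ w ∈ W, h w ∈ W) → W = ⊥ ∨ W = ⊤)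
    [Nontrivial V] : Cfsg.pCore 3 (tvGen H) = ⊥ := by
  have hfin : Finite (V ≃ₗ[ZMod 3] V) := Finite.of_injective (fun f => (f : V → V)) DFunLike.coe_injective
  set P := (Cfsg.pCore 3 (tvGen H)).map (tvGen H).subtype with hP
  have hPp : IsPGroup 3 P := (Cfsg.Agent.Lib.Cores.pCore_isPGroup 3).map _
  have hconj : ∀ h ∈ H, ∀ x ∈ P, h⁻¹ * x * h ∈ P := by
    intro h hh x hx
    have h1 := core_conj 3 (fun h hh => tvGen_map hh) (H.inv_mem hh) (D := tvGen H)
    rw [← hP] at h1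
    have h2 : (MulAut.conj h⁻¹).toMonoidHom x ∈ P.map (MulAut.conj h⁻¹).toMonoidHom := ⟨x, hx, rfl⟩
    rw [h1] at h2
    simpa using h2
  let W : Submodule (ZMod 3) V :=
    { carrier := {v | ∀ x ∈ P, x v = v}
      zero_mem' := fun x _ => map_zero x
      add_mem' := fun {u v} hu hv x hx => by rw [map_add, hu x hx, hv x hx]
      smul_mem' := fun c v hv x hx => by rw [map_smul, hv x hx] }
  have hW : ∀ v, v ∈ W ↔ ∀ x ∈ P, x v = v := fun v => Iff.rfl
  have hWH : ∀ h ∈ H, ∀ w ∈ W, h w ∈ W := by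
    intro h hh w hw x hx
    have h1 := hw _ (hconj h hh x hx)
    have h2 : (h⁻¹ * x * h : V ≃ₗ[ZMod 3] V) w = h.symm (x (h w)) := rfl
    rw [h2, LinearEquiv.symm_apply_eq] at h1
    exact h1
  have hne : W ≠ ⊥ := by
    intro h0
    -- `P` is a `3`-group acting on `V`
    have h3 : 3 ∣ Nat.card V := by
      have := Module.natCard_eq_pow_finrank (K := ZMod 3) (V := V)
      rw [this, Nat.card_zmod]
      exact dvd_pow_self 3 (Module.finrank_pos (R := ZMod 3) (M := V)).ne'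
    let act : MulAction P V :=
      { smul := fun x v => (x : V ≃ₗ[ZMod 3] V) v
        one_smul := fun v => rfl
        mul_smul := fun x y v => rfl }
    have hzero : (0 : V) ∈ MulAction.fixedPoints P V := fun x => map_zero (x : V ≃ₗ[ZMod 3] V)
    obtain ⟨b, hb, hb0⟩ := hPp.exists_fixed_point_of_prime_dvd_card_of_fixed_point V h3 hzero
    apply hb0
    have h4 : b ∈ W := fun x hx => hb ⟨x, hx⟩
    rw [h0, Submodule.mem_bot] at h4
    exact h4.symm
  have htop := (hirr W hWH).resolve_left hne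
  rw [eq_bot_iff]
  intro x hx
  rw [Subgroup.mem_bot]
  have h5 : (x : V ≃ₗ[ZMod 3] V) ∈ P := ⟨x, hx, rfl⟩
  apply Subtype.ext
  apply LinearEquiv.ext
  intro v
  have h6 : v ∈ W := by rw [htop]; exact Submodule.mem_top
  exact h6 _ h5

/-- **All symplectic transvections.** -/
theorem all_tv (halt : ω.IsAlt) (hnd : ∀ v, (∀ w, ω v w = 0) → v = 0) (hd : finrank (ZMod 3) V < 10)
    (hH : ∀ h ∈ H, ∀ x y, ω (h x) (h y) = ω x y)
    (hirr : ∀ W : Submodule (ZMod 3) V, (∀ h ∈ H, ∀ l : ℕ, l.Prime → 5 ≤ l → h ^ l = 1 → ∀ w ∈ W, h w ∈ W) →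
      W = ⊥ ∨ W = ⊤) {a : V} (ha : a ≠ 0) (ht : ∃ t ∈ H, ∀ x, t x = x + ω a x • a) (v : V) :
    ∃ t ∈ H, ∀ x, t x = x + ω v x • v := by
  have hnt : Nontrivial V := ⟨⟨a, 0, ha⟩⟩
  have hO : Cfsg.pCore 3 (tvGen H) = ⊥ := pCore_tvGen fun W hW => hirr W fun h hh l _ _ _ w hw => hW h hh w hw
  have hH' : ∀ h ∈ tvGen H, ∀ x y, ω (h x) (h y) = ω x y := fun h hh => hH h (tvGen_le hh)
  have hN : NI (tvGen H) := ni_of_pCore (by decide) hO
  obtain ⟨t, ht1, ht2⟩ := ht
  have hTv : Tv (tvGen H) a (ω a) := tv_tvGen ⟨halt a, t, ht1, ht2⟩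
  have hφ : ω a ≠ 0 := fun e => ha (hnd a fun w => by rw [e]; rfl)
  obtain ⟨b, ψ, hb1, hb2, hb3⟩ := hN a (ω a) hTv ha hφ
  have hctr : Ctr (tvGen H) a := ⟨b, ω a, ψ, hTv, hb1, hb2, hb3⟩
  obtain ⟨hcompl, ρ, hρ, hor⟩ := comp_main (by decide) hO gen_tvGen hctr
  -- the span of the component is everything
  have hWtop : Wc (tvGen H) a = ⊤ := by
    refine (hirr (Wc (tvGen H) a) ?_).resolve_left ?_
    · intro h hh l hl hl5 hhl w hw
      have h1 : Cmp (tvGen H) a (h a) := cmp_self halt hnd hH hl (by omega) hh hhl hctr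
      have h2 : Wc (tvGen H) a ≤ (Wc (tvGen H) a).comap (h : V →ₗ[ZMod 3] V) := by
        rw [Wc, Submodule.span_le]
        intro x hx
        exact Submodule.subset_span (h1.trans (cmp_conj hx hh))
      exact h2 hw
    · intro h0
      have : a ∈ Wc (tvGen H) a := Submodule.subset_span (Cmp.refl a)
      rw [h0, Submodule.mem_bot] at this
      exact ha this
  have hmemW : ∀ x : V, x ∈ Wc (tvGen H) a := fun x => by rw [hWtop]; exact Submodule.mem_top
  -- transvections as linear equivalences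
  have hmk : ∀ (v : V) (c : ZMod 3) (f : V ≃ₗ[ZMod 3] V), (∀ x, f x = x + (c * ω v x) • v) →
      f ∈ tvGen H → c ≠ 0 → ∃ t ∈ H, ∀ x, t x = x + ω v x • v := by
    intro v c f hf hfD hc
    have hc2 : c = 1 ∨ c = -1 := (by decide : ∀ c : ZMod 3, c ≠ 0 → c = 1 ∨ c = -1) c hc
    rcases hc2 with rfl | rfl
    · exact ⟨f, tvGen_le hfD, fun x => by rw [hf, one_mul]⟩
    · refine ⟨f⁻¹, H.inv_mem (tvGen_le hfD), fun x => ?_⟩
      rw [show (f⁻¹ : V ≃ₗ[ZMod 3] V) x = f.symm x from rfl, LinearEquiv.symm_apply_eq, hf]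
      simp [halt v]
  by_cases hv : v = 0
  · refine ⟨1, H.one_mem, fun x => ?_⟩
    rw [hv, map_zero, LinearMap.zero_apply, zero_smul, add_zero]
    rfl
  -- the linear equivalence `x ↦ x + c ω(v, x) v` on the component
  have hlift : ∀ c : ZMod 3, c ≠ 0 → ∀ f : Wc (tvGen H) a ≃ₗ[ZMod 3] Wc (tvGen H) a,
      (∀ x : Wc (tvGen H) a, ((f x : Wc (tvGen H) a) : V) = x + (c * ω v x) • v) → f ∈ ρ.range →
      ∃ t ∈ H, ∀ x, t x = x + ω v x • v := by
    rintro c hc f hf ⟨k, rfl⟩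
    refine hmk v c k (fun x => ?_) (Kc_le a k.2) hc
    have h1 := hρ k ⟨x, hmemW x⟩
    rw [hf] at h1
    exact h1.symm
  rcases hor with hSL | ⟨B, hB1, hB2, hB3⟩
  · -- the special linear group
    let w : Wc (tvGen H) a := ⟨v, hmemW v⟩
    let θ : Dual (ZMod 3) (Wc (tvGen H) a) := (ω v).comp (Wc (tvGen H) a).subtype
    have hθ : θ w = 0 := halt v
    let f : Wc (tvGen H) a ≃ₗ[ZMod 3] Wc (tvGen H) a := LinearEquiv.transvection hθ
    refine hlift 1 one_ne_zero f (fun x => ?_) ?_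
    · rw [one_mul]
      rfl
    · rw [← SetLike.mem_coe, hSL, Set.mem_ofPred_eq]
      change LinearMap.det (LinearMap.transvection θ w) = 1
      rw [LinearMap.transvection.det, hθ, add_zero]
  · -- the symplectic group
    let w : Wc (tvGen H) a := ⟨v, hmemW v⟩
    have hw0 : w ≠ 0 := fun e => hv (congrArg Subtype.val e)
    have hθ : B w w = 0 := hB1 w
    let f : Wc (tvGen H) a ≃ₗ[ZMod 3] Wc (tvGen H) a := LinearEquiv.transvection hθ
    have hf : ∀ x, f x = x + B w x • w := fun x => rfl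
    have hfr : f ∈ ρ.range := by
      rw [← SetLike.mem_coe, hB3, Set.mem_ofPred_eq]
      intro x y
      rw [hf, hf]
      simp only [map_add, map_smul, LinearMap.add_apply, LinearMap.smul_apply, smul_eq_mul, hθ]
      rw [← hB1.neg_eq x w]
      ring
    obtain ⟨k, hk⟩ := id hfr
    have hkf : ∀ x : Wc (tvGen H) a, (k : V ≃ₗ[ZMod 3] V) (x : V) = (x : V) + B w x • v := by
      intro x
      rw [← hρ k x, hk, hf]
      rfl
    let φ : Dual (ZMod 3) V := (B w).comp (LinearMap.codRestrict (Wc (tvGen H) a) LinearMap.id hmemW)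
    have hφ' : ∀ x : V, φ x = B w ⟨x, hmemW x⟩ := fun x => rfl
    obtain ⟨c, hc⟩ := phi_eq (φ := φ) halt hnd hv (fun x y => by
      have h1 := hH' k (Kc_le a k.2) x y
      rw [hkf ⟨x, hmemW x⟩, hkf ⟨y, hmemW y⟩] at h1
      exact h1)
    refine hlift c (fun h0 => ?_) f (fun x => ?_) hfr
    · apply hw0
      apply hB2.1 w
      intro y
      have := hc y
      rw [h0, zero_mul, hφ'] at this
      exact this
    · rw [← hc]
      rfl

end main

end Cfsg.Agent.H901.Der
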